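import Cfsg.Agent.Mrg.Omega.NO3S.FarQ.FOne


/-!
# FarQ K-free, piece (Z) (helper238 #19123; TEXT helper937 #18718 (4.3), 244 (L1)): the canonical exact offender

Language of `FarQ/Abs.lean` (`M` elementary abelian, `lam = V_l / p`, `U = I_l / p`).

* `bb U = C_H(U) ∩ C_H(M / U)`; `IsBB U b`;
* `JS lam U J` : `J ≤ C_H(lam)`, `[U, J] ≤ lam`, and `[u, J] = lam` (all values) for `u ∈ U - lam`;
* `same` : if the `m` fixed by some `1 ≠ b ∈ bb U` are the elements of a subgroup `Z'` of index `|A|`, where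
  `1 ≠ A ≤ bb U` is exact, then `Z' = C_M(A)`, `A = C_{bb U}(Z')`;
* `norm_em` : `[M, A]` is invariant under all `h` with `h U = U`;
* `em_inf_lam` : `[M, A] ∩ lam ≠ 1`.
-/

set_option autoImplicit false
set_option linter.unusedSectionVars false

namespace Cfsg.Agent.Omega.NO3S.FarQ.Free.Canon

open Subgroup Cfsg Cfsg.Agent.ZN Cfsg.Agent.MinSimple.VModule Cfsg.Agent.Omega.NOThree.Pts
open Cfsg.Agent.ClassTwoFusion.Quad (cv mem_cv cv_anti)

variable {H M R : Type*} [Group H] [CommGroup M] [MulDistribMulAction H M] [CommGroup R]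

/-- `b ∈ C_H(U) ∩ C_H(M / U)` -/
def IsBB (U : Subgroup M) (b : H) : Prop := (∀ u ∈ U, b • u = u) ∧ ∀ m : M, (b • m) * m⁻¹ ∈ U

variable (H) in
/-- `C_H(U) ∩ C_H(M / U)` -/
def bb (U : Subgroup M) : Subgroup H where
  carrier := {b | IsBB U b}
  one_mem' := ⟨fun u _ => one_smul _ _, fun m => by rw [one_smul, mul_inv_cancel]; exact one_mem _⟩
  mul_mem' := by
    rintro x y ⟨hx, hx'⟩ ⟨hy, hy'⟩
    refine ⟨fun u hu => by rw [mul_smul, hy u hu, hx u hu], fun m => ?_⟩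
    have e : (x * y) • m * m⁻¹ = (x • ((y • m) * m⁻¹)) * ((x • m) * m⁻¹) := by
      rw [mul_smul, smul_mul', smul_inv']; group
    rw [e, hx _ (hy' m)]
    exact mul_mem (hy' m) (hx' m)
  inv_mem' := by
    rintro x ⟨hx, hx'⟩
    have hxi : ∀ u ∈ U, x⁻¹ • u = u := fun u hu => by rw [inv_smul_eq_iff, hx u hu]
    refine ⟨hxi, fun m => ?_⟩
    have h1 := hxi _ (inv_mem (hx' m))
    rw [mul_inv_rev, inv_inv, smul_mul', smul_inv', inv_smul_smul] at h1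
    rw [h1]
    have h2 := inv_mem (hx' m)
    rwa [mul_inv_rev, inv_inv] at h2

theorem mem_bb {U : Subgroup M} {b : H} : b ∈ bb H U ↔ IsBB U b := Iff.rfl

/-- **`J` of the flag.** -/
structure JS (lam U : Subgroup M) (J : Subgroup H) : Prop where
  le : J ≤ fixer lam
  act : ∀ j ∈ J, ∀ u ∈ U, (j • u) * u⁻¹ ∈ lam
  full : ∀ u ∈ U, u ∉ lam → ∀ a ∈ lam, ∃ j ∈ J, j • u = u * a

section basic

variable {U : Subgroup M} (sq : ∀ m : M, m * m = 1) (faith : ∀ h : H, (∀ m : M, h • m = m) → h = 1)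
include sq faith

theorem bb_sq {b : H} (hb : IsBB U b) : b * b = 1 := by
  refine faith _ fun m => ?_
  have e : b • b • m = (b • ((b • m) * m⁻¹)) * (b • m) := by rw [smul_mul', smul_inv']; group
  have h1 := sq ((b • m) * m⁻¹)
  rw [mul_smul, e, hb.1 _ (hb.2 m)]
  calc b • m * m⁻¹ * b • m = (b • m * m⁻¹ * (b • m * m⁻¹)) * m := by group
    _ = m := by rw [h1, one_mul]

theorem bb_comm {a b : H} (ha : IsBB U a) (hb : IsBB U b) : a * b = b * a := by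
  have h1 : a⁻¹ = a := inv_eq_of_mul_eq_one_left (bb_sq sq faith ha)
  have h2 : b⁻¹ = b := inv_eq_of_mul_eq_one_left (bb_sq sq faith hb)
  have h3 : (a * b)⁻¹ = a * b :=
    inv_eq_of_mul_eq_one_left (bb_sq sq faith (mul_mem (mem_bb.2 ha) (mem_bb.2 hb) : a * b ∈ bb H U))
  rw [← h3, mul_inv_rev, h1, h2]

omit sq faith in
theorem bb_quad {a b : H} (ha : IsBB U a) (hb : IsBB U b) (m : M) : b • ((a • m) * m⁻¹) = (a • m) * m⁻¹ :=
  hb.1 _ (ha.2 m)

omit sq faith in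
theorem isBB_conj {h b : H} (hU : ∀ u ∈ U, h • u ∈ U) (hU' : ∀ u ∈ U, h⁻¹ • u ∈ U) (hb : IsBB U b) :
    IsBB U (h * b * h⁻¹) := by
  refine ⟨fun u hu => ?_, fun m => ?_⟩
  · rw [mul_smul, mul_smul, hb.1 _ (hU' u hu), smul_inv_smul]
  · have h1 := hU _ (hb.2 (h⁻¹ • m))
    rwa [smul_mul', smul_inv', smul_inv_smul, ← mul_smul, ← mul_smul] at h1

theorem bb_le_o2 [Finite H] {lam : Subgroup M} (hle : lam ≤ U) (hU : ∀ h ∈ fixer (H := H) lam, ∀ u ∈ U, h • u ∈ U) :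
    bb H U ≤ o2 (fixer lam) := by
  refine le_o2 (fun b hb a ha => hb.1 a (hle ha)) ?_ (mem_normalizer_of_conj ?_)
  · rintro ⟨b, hb⟩
    exact ⟨1, Subtype.ext (by
      show b ^ 2 ^ 1 = 1
      rw [pow_one, pow_two]; exact bb_sq sq faith hb)⟩
  · intro c hc b hb
    exact isBB_conj (hU c hc) (hU _ (inv_mem hc)) hb

end basic

section main

variable {T : Subgroup H} {lam U : Subgroup M} {Kh : Subgroup (M →* R)} (F : Flag T lam U Kh)
  (hU : ∀ h ∈ fixer (H := H) lam, ∀ u ∈ U, h • u ∈ U) (hNO : NoOv (H := H) lam)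
  {A : Subgroup H} (hA : ∀ a ∈ A, IsBB U a) (hex : Nat.card A = (zm M A).index)
  {Z' : Subgroup M} (hZ : ∀ m, m ∈ Z' ↔ ∃ b : H, IsBB U b ∧ b ≠ 1 ∧ b • m = m) (hi : Z'.index = Nat.card A)

include F hA hex hZ hi in
/-- `Z' = C_M(A)` -/
theorem zm_eq (hA1 : A ≠ ⊥) : zm M A = Z' := by
  have := F.finM
  have h1 : zm M A ≤ Z' := by
    intro m hm
    obtain ⟨a, ha, ha1⟩ : ∃ a ∈ A, a ≠ 1 := by
      by_contra hcon
      push Not at hcon
      exact hA1 (eq_bot_iff.2 fun x hx => mem_bot.2 (hcon x hx))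
    exact (hZ m).2 ⟨a, hA a ha, ha1, mem_cv.1 hm a ha⟩
  have h2 : Nat.card (zm M A) = Nat.card Z' := by
    have e1 := (zm M A).card_mul_index
    have e2 := Z'.card_mul_index
    rw [hi] at e2
    rw [← hex] at e1
    have h0 : 0 < Nat.card A := by
      have := F.finH
      exact Nat.card_pos
    exact Nat.eq_of_mul_eq_mul_right h0 (e1.trans e2.symm)
  exact Subgroup.eq_of_le_of_card_ge h1 h2.ge

/-- `C_{bb U}(Z')` -/
def cb (U Z' : Subgroup M) : Subgroup H where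
  carrier := {b | IsBB U b ∧ ∀ m ∈ Z', b • m = m}
  one_mem' := ⟨one_mem (bb H U), fun m _ => one_smul _ _⟩
  mul_mem' := by
    rintro x y ⟨hx, hx'⟩ ⟨hy, hy'⟩
    exact ⟨mul_mem (mem_bb.2 hx) (mem_bb.2 hy), fun m hm => by rw [mul_smul, hy' m hm, hx' m hm]⟩
  inv_mem' := by
    rintro x ⟨hx, hx'⟩
    exact ⟨inv_mem (mem_bb.2 hx), fun m hm => by rw [inv_smul_eq_iff, hx' m hm]⟩

include F hU hNO hA hex hZ hi in
/-- `A = C_{bb U}(Z')` -/
theorem mem_A (hA1 : A ≠ ⊥) (b : H) : b ∈ A ↔ IsBB U b ∧ ∀ m ∈ Z', b • m = m := by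
  have := F.finH
  have := F.finM
  have hz := zm_eq F hA hex hZ hi hA1
  have hle : A ≤ cb U Z' := fun a ha => ⟨hA a ha, fun m hm => mem_cv.1 (hz ▸ hm : m ∈ zm M A) a ha⟩
  have h1 : Nat.card (cb U Z' : Subgroup H) ≤ (zm M (cb U Z' : Subgroup H)).index := by
    refine hNO _ ?_ ?_ ?_ ?_
    · exact fun b hb => bb_le_o2 F.sq F.faith F.le hU (mem_bb.2 hb.1)
    · exact fun a ha b hb => bb_comm F.sq F.faith ha.1 hb.1
    · exact fun a ha => bb_sq F.sq F.faith ha.1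
    · exact fun a ha b hb m => bb_quad ha.1 hb.1 m
  have h2 : (zm M (cb U Z' : Subgroup H)).index ≤ Z'.index := by
    have h3 : Z' ≤ zm M (cb U Z' : Subgroup H) := fun m hm => mem_cv.2 fun b hb => hb.2 m hm
    exact Nat.le_of_dvd (Nat.pos_of_ne_zero Subgroup.index_ne_zero_of_finite) (Subgroup.index_dvd_of_le h3)
  have h4 : A = cb U Z' := Subgroup.eq_of_le_of_card_ge hle (h1.trans (h2.trans hi.le))
  rw [h4]
  exact Iff.rfl

include F hU hNO hA hex hZ hi in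
theorem norm_A (hA1 : A ≠ ⊥) {h : H} (h1 : ∀ u ∈ U, h • u ∈ U) (h2 : ∀ u ∈ U, h⁻¹ • u ∈ U) {a : H} (ha : a ∈ A) :
    h * a * h⁻¹ ∈ A := by
  have hm := mem_A F hU hNO hA hex hZ hi hA1
  rw [hm] at ha ⊢
  refine ⟨isBB_conj h1 h2 ha.1, fun m hmZ => ?_⟩
  have h3 : h⁻¹ • m ∈ Z' := by
    obtain ⟨b, hb, hb1, hbm⟩ := (hZ m).1 hmZ
    refine (hZ _).2 ⟨h⁻¹ * b * h⁻¹⁻¹, isBB_conj h2 (by rwa [inv_inv]) hb, ?_, ?_⟩
    · intro h0
      apply hb1
      rw [inv_inv] at h0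
      calc b = h * (h⁻¹ * b * h) * h⁻¹ := by group
        _ = 1 := by rw [h0]; group
    · rw [mul_smul, mul_smul, inv_inv, smul_inv_smul, hbm]
  rw [mul_smul, mul_smul, ha.2 _ h3, smul_inv_smul]

include F hU hNO hA hex hZ hi in
/-- `[M, A]` is invariant under `N_H(U)`. -/
theorem norm_em (hA1 : A ≠ ⊥) {h : H} (h1 : ∀ u ∈ U, h • u ∈ U) (h2 : ∀ u ∈ U, h⁻¹ • u ∈ U) {m : M}
    (hm : m ∈ em M A) : h • m ∈ em M A := by
  refine closure_induction (p := fun x _ => h • x ∈ em M A) ?_ ?_ ?_ ?_ hm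
  · rintro _ ⟨a, ha, m, -, rfl⟩
    rw [smul_mul', smul_inv']
    refine subset_closure ⟨h * a * h⁻¹, norm_A F hU hNO hA hex hZ hi hA1 h1 h2 ha, h • m, mem_top _, ?_⟩
    rw [mul_smul, mul_smul, inv_smul_smul]
  · rw [smul_one]; exact one_mem _
  · intro x y _ _ hx hy
    rw [smul_mul']; exact mul_mem hx hy
  · intro x _ hx
    rw [smul_inv']; exact inv_mem hx

include F hU hNO hA hex hZ hi in
/-- **(Z)** `[M, A] ∩ lam ≠ 1` -/
theorem em_inf_lam (hA1 : A ≠ ⊥) {J : Subgroup H} (hJ : JS lam U J) : em M A ⊓ lam ≠ ⊥ := by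
  have := F.finM
  intro h0
  -- `1 ≠ u ∈ [M, A]`
  obtain ⟨u, hu, hu1⟩ : ∃ u ∈ em M A, u ≠ 1 := by
    by_contra hcon
    push Not at hcon
    apply hA1
    rw [eq_bot_iff]
    intro a ha
    refine mem_bot.2 (F.faith a fun m => ?_)
    have := hcon _ (subset_closure ⟨a, ha, m, mem_top _, rfl⟩ : (a • m) * m⁻¹ ∈ em M A)
    rwa [mul_inv_eq_one] at this
  have hemU : em M A ≤ U := by
    rw [em, cm, closure_le]
    rintro _ ⟨a, ha, m, -, rfl⟩
    exact (hA a ha).2 m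
  have hul : u ∉ lam := fun hl => hu1 (by
    have : u ∈ em M A ⊓ lam := ⟨hu, hl⟩
    rwa [h0, mem_bot] at this)
  obtain ⟨a, ha, ha1⟩ : ∃ a ∈ lam, a ≠ 1 := by
    by_contra hcon
    push Not at hcon
    have h1 : lam = ⊥ := eq_bot_iff.2 fun x hx => mem_bot.2 (hcon x hx)
    have h2 := F.four
    rw [h1, Subgroup.card_bot] at h2
    omega
  obtain ⟨j, hj, hju⟩ := hJ.full u (hemU hu) hul a ha
  have hjU : ∀ j ∈ J, ∀ u ∈ U, j • u ∈ U := by
    intro j hj u hu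
    have := mul_mem (F.le (hJ.act j hj u hu)) hu
    rwa [inv_mul_cancel_right] at this
  have h1 := norm_em F hU hNO hA hex hZ hi hA1 (hjU j hj) (hjU _ (inv_mem hj)) hu
  rw [hju] at h1
  have h2 : a ∈ em M A ⊓ lam := ⟨by simpa using mul_mem (inv_mem hu) h1, ha⟩
  rw [h0, mem_bot] at h2
  exact ha1 h2

end main

end Cfsg.Agent.Omega.NO3S.FarQ.Free.Canon
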