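import Cfsg.Agent.Mrg.Omega.NO3S.FarQ.Free.FullG
import Cfsg.Agent.Mrg.Omega.NO3S.FarQ.Free.FullDual


/-!
# FarQ, K-free: EXISTENCE of a goal pair in the FULL world (`N_p = p`, `K^` full) (helper404 #19545, (E3)-(E5))

* `exists_path`, `gg_of_typeI` : from `TypeI` to `GG`;
* `exists_bad` : a mover of a pair without (D) is `Bad`;
* `false_of_two` : (E3), one of `(p, q)`, `(q, p)` has a pair with (D);
* `typeI_of_one` : (E5), `typeI_of_both` : (E4);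
* `exists_gg` : `Frm`, `FullAt`, `Crit inc W n a b`, `3 ≤ n` : a goal pair exists.
-/

set_option autoImplicit false
set_option linter.unusedSectionVars false

namespace Cfsg.Agent.Omega.NO3S.FarQ.Free

open Subgroup Cfsg Cfsg.Agent.ZN Cfsg.Agent.MinSimple.VModule Cfsg.Agent.Omega.NOThree.Pts
open Cfsg.Agent.Omega.NOThree.LemmaM Cfsg.Agent.Omega.NOThree.LemmaMPlus
open Cfsg.Agent.Omega.NO3S.FarQ.Glue Cfsg.Agent.Omega.NO3S.FarQ.Asm

variable {G X L : Type*} [Group G] [MulAction G X] [MulAction G L]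
variable {inc : X → L → Prop} {R W : X → Subgroup G} {V : L → Subgroup G} {s t n : ℕ}
variable {H M K : Type*} [Group H] [CommGroup M] [MulDistribMulAction H M] [CommGroup K]
variable {p q x₁ x₂ : X} {l l' : L} {Sy Sy' : Subgroup G} {ρ ρ' : G → H} {π π' : G → M} {ζ ζ' : K →* G}
variable {T : Subgroup H} {lam U : Subgroup M} {Kh : Subgroup (M →* K)}

omit [Group G] [MulAction G X] [MulAction G L] in
/-- a walk as a path -/
theorem exists_path {k : ℕ} {a b : X} (h : Walk inc k a b) :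
    ∃ y : ℕ → X, y 0 = a ∧ y k = b ∧ ∀ i < k, Col inc (y i) (y (i + 1)) := by
  classical
  induction h with
  | zero x => exact ⟨fun _ => x, rfl, rfl, fun i hi => absurd hi (Nat.not_lt_zero i)⟩
  | @step k x y z l h hy hz ih =>
    obtain ⟨w, h0, h1, h2⟩ := ih
    refine ⟨fun i => if i ≤ k then w i else z, ?_, ?_, fun i hi => ?_⟩
    · simp [h0]
    · simp
    · show Col inc (if i ≤ k then w i else z) (if i + 1 ≤ k then w (i + 1) else z)
      rcases Nat.lt_or_ge i k with h3 | h3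
      · have e1 : (if i ≤ k then w i else z) = w i := if_pos h3.le
        have e2 : (if i + 1 ≤ k then w (i + 1) else z) = w (i + 1) := if_pos h3
        rw [e1, e2]
        exact h2 i h3
      · have h4 : i = k := by omega
        subst h4
        have e1 : (if i ≤ i then w i else z) = w i := if_pos le_rfl
        have e2 : (if i + 1 ≤ i then w (i + 1) else z) = z := if_neg (by omega)
        rw [e1, e2, h1]
        exact ⟨l, hy, hz⟩

/-- `TypeI` gives a goal pair -/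
theorem gg_of_typeI {k : ℕ} {x : X} (h : TypeI inc R W (k + 1) p x q l) : ∃ y : ℕ → X, GG inc R W k y := by
  obtain ⟨y, h0, h1, h2⟩ := exists_path h.walk
  rw [Nat.add_sub_cancel] at h1 h2
  refine ⟨ch p y, { crit := ?_, col := ?_, t1 := ?_, t2 := ?_, low := ?_ }⟩
  · rw [ch_zero, ch_succ, h1]
    exact h.crit
  · intro i hi
    match i with
    | 0 =>
      show Col inc p (y 0)
      rw [h0]
      exact ⟨l, h.pl, h.xl⟩
    | (i + 1) => exact h2 i (by omega)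
  · rw [ch_zero, ch_succ, h1]
    exact h.inf
  · rw [ch_zero, ch_succ, h1]
    exact h.inf'
  · show ∀ a ∈ W p, ∀ b ∈ W (y k), a * b * a⁻¹ * b⁻¹ ∈ W (y 0)
    rw [h0, h1]
    exact fun a ha b hb => (h.le a ha b hb).2

/-- Transport of `FullAt` -/
theorem FullAt.smul (D : Geom inc R W V s t) (h : FullAt R W p) (g : G) : FullAt R W (g • p) := by
  intro w hw hwR z hz
  obtain ⟨k, hk, h1⟩ := h (g⁻¹ * w * g) ((D.W_smul_iff g).1 hw) (fun e => hwR ((D.R_smul_iff g).2 e))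
    (g⁻¹ * z * g) ((D.R_smul_iff g).1 hz)
  refine ⟨g * k * g⁻¹, ⟨fun z hz => ?_, fun w hw => ?_⟩, ?_⟩
  · have h2 := hk.cent _ ((D.R_smul_iff g).1 hz)
    calc g * k * g⁻¹ * z = g * (k * (g⁻¹ * z * g)) * g⁻¹ := by group
      _ = g * ((g⁻¹ * z * g) * k) * g⁻¹ := by rw [h2]
      _ = z * (g * k * g⁻¹) := by group
  · rw [D.R_smul_iff]
    have h2 := hk.low _ ((D.W_smul_iff g).1 hw)
    have e : g⁻¹ * (g * k * g⁻¹ * w * (g * k * g⁻¹)⁻¹ * w⁻¹) * g =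
        k * (g⁻¹ * w * g) * k⁻¹ * (g⁻¹ * w * g)⁻¹ := by group
    rwa [e]
  · calc g * k * g⁻¹ * w * (g * k * g⁻¹)⁻¹ * w⁻¹ = g * (k * (g⁻¹ * w * g) * k⁻¹ * (g⁻¹ * w * g)⁻¹) * g⁻¹ := by group
      _ = z := by rw [h1]; group

theorem FullAt.all (D : Geom inc R W V s t) (F : Frm inc R W V p l Sy ρ π ζ T lam U Kh) (h : FullAt R W p) (x : X) :
    FullAt R W x := by
  obtain ⟨m, hm⟩ := D.exists_line x
  obtain ⟨g, rfl, -⟩ := F.fl x m hm
  exact h.smul D g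

/-- a mover of a pair without (D) -/
theorem exists_bad [Finite G] (D : Geom inc R W V s t) (F : RD inc R W V p l Sy ρ π ζ T lam U Kh)
    (hc : Crit inc W n p q) (hn : 1 ≤ n) (hx₁ : inc x₁ l) (hw : Walk inc (n - 1) x₁ q) (hnd : ¬ DP inc W p q)
    {f : G} (hf : f ∈ W q) (hf1 : ρ f ≠ 1) :
    ∃ h ∈ centralizer (R p : Set G), Bad inc R W n p q x₁ l f h := by
  obtain ⟨h, hh, ho, hi, -, -, hm, -⟩ := exists_mover_crit D F hc hn hx₁ hw hf hf1
  refine ⟨h, hh, hc, hn, F.pl, hx₁, hw, hf, fun z hz => (mem_centralizer_iff.1 hh z hz).symm, ho, hi, hm,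
    fun hcon => hnd ⟨h • x₁, h • l, f, D.inc_smul h _ _ hx₁, ?_, hf, hm, hcon⟩⟩
  have h1 := D.inc_smul h _ _ F.pl
  rwa [Four.fix_p D hh] at h1

/-- **(E3)** -/
theorem false_of_two [Finite G] (D : Geom inc R W V s t) (F : RD inc R W V p l Sy ρ π ζ T lam U Kh)
    (F' : RD inc R W V q l' Sy' ρ' π' ζ' T lam U Kh) (hc : Crit inc W n p q) (hn : 3 ≤ n) (hp : FullAt R W p)
    (hq : FullAt R W q) (h1 : ¬ DP inc W p q) (h2 : ¬ DP inc W q p) (hx₁ : inc x₁ l) (hw : Walk inc (n - 1) x₁ q)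
    (hx₂ : inc x₂ l') (hw' : Walk inc (n - 1) x₂ p) : False := by
  have htp := tp_of D hc (by omega) h1
  obtain ⟨x₀, m₀, hx₀, hp₀, f₀, hf₀, w₀, hw₀R, hne⟩ := exists_moved D hc.ne
  have hw₀ : w₀ ∈ W p := Four.R_le_Wp D hx₀ hp₀ hw₀R
  have hf1 : ρ f₀ ≠ 1 := by
    intro e
    refine hne (htp _ _ hx₀ hp₀ _ hw₀R f₀ hf₀ ((comm_mem_iff F.re D (W_le_cent D hc (by omega) hf₀) hw₀).2 ?_))
    rw [e, one_smul]
  obtain ⟨h, hh, b⟩ := exists_bad D F hc (by omega) hx₁ hw h1 hf₀ hf1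
  obtain ⟨v, hv, hv1⟩ := D.exists_ne (h • x₁)
  have hvW : v ∈ W p := b.xW D hv
  have hv2 : ρ' v ≠ 1 := by
    intro e
    have h3 : v * f₀ * v⁻¹ * f₀⁻¹ ∈ R q :=
      (comm_mem_iff F'.re D (W_le_cent D hc.symm (by omega) hvW) hf₀).2 (by rw [e, one_smul])
    have h4 : v * f₀ * v⁻¹ * f₀⁻¹ ∈ V l := by
      have h5 := inv_mem (b.comm_mem D hp hf₀ hv)
      have e2 : (f₀ * v * f₀⁻¹ * v⁻¹)⁻¹ = v * f₀ * v⁻¹ * f₀⁻¹ := by group
      rwa [e2] at h5
    have h6 : v * f₀ * v⁻¹ * f₀⁻¹ ≠ 1 := by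
      intro e3
      rw [mul_inv_eq_one, mul_inv_eq_iff_eq_mul] at e3
      exact b.mv (D.fix hv hv1 e3.symm)
    exact hc.not_walk (k := 1) (by omega) (Walk.one F.pl (on_line D h3 h6 h4))
  obtain ⟨h', hh', b'⟩ := exists_bad D F' hc.symm (by omega) hx₂ hw' h2 hvW hv2
  obtain ⟨a, ha, ha1⟩ := D.exists_ne (h' • x₂)
  have haW : a ∈ W q := b'.xW D ha
  have k1 : v * a * v⁻¹ * a⁻¹ ∈ V l' := b'.comm_mem D hq hvW ha
  have k2 : v * a * v⁻¹ * a⁻¹ ∈ V l := by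
    have h5 := inv_mem (b.comm_mem D hp haW hv)
    have e2 : (a * v * a⁻¹ * v⁻¹)⁻¹ = v * a * v⁻¹ * a⁻¹ := by group
    rwa [e2] at h5
  have k3 : v * a * v⁻¹ * a⁻¹ ≠ 1 := by
    intro e3
    rw [mul_inv_eq_one, mul_inv_eq_iff_eq_mul] at e3
    exact b'.mv (D.fix ha ha1 e3)
  obtain ⟨e, he, hce⟩ := D.cover _ _ k2
  have he' := on_line D hce k3 k1
  exact hc.not_walk (k := 2) (by omega) ((Walk.one F.pl he).step he' F'.pl)

/-- `MDat` from `DP` -/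
theorem DP.mdat (D : Geom inc R W V s t) (hd : DP inc W p q) (hn : 3 ≤ n) (hc : Crit inc W n p q) {r : X}
    (hr : Walk inc (n - 1) p r) (hrl : inc r l) (hql : inc q l) : ∃ x m f, MDat inc R W V s t n p q r x l m f := by
  obtain ⟨x, m, f, hx, hp, hf, hfx, hlow⟩ := hd
  exact ⟨x, m, f, D, hn, hc, hr, hrl, hql, hx, hp, hf, hfx, hlow⟩

/-- **(E4)** -/
theorem typeI_of_both [Finite G] (D : Geom inc R W V s t) (hNO : NoOver inc R W V) (hn : 3 ≤ n)
    (hc : Crit inc W n p q) (h1 : DP inc W p q) (h2 : DP inc W q p) : ∃ p x q l, TypeI inc R W n p x q l := by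
  by_contra hcon
  have key : ∀ p q r l, Crit inc W n p q → DP inc W p q → Walk inc (n - 1) p r → inc r l → inc q l →
      (∀ u ∈ R p, u ∈ W q → u = 1) ∧ ∀ a ∈ W p, ∀ b ∈ W q, a * b * a⁻¹ * b⁻¹ ∈ W q ⊓ W r := by
    intro p q r l hc hd hr hrl hql
    obtain ⟨x, m, f, hM⟩ := hd.mdat D hn hc hr hrl hql
    rcases alternative hM hNO with h | h
    · exact (hcon ⟨_, _, _, _, h⟩).elim
    · exact h
  obtain ⟨r, l, hr, hrl, hql⟩ := hc.last (by omega)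
  obtain ⟨r', l', hr', hrl', hql'⟩ := hc.symm.last (by omega)
  obtain ⟨h3, h4⟩ := key p q r l hc h1 hr hrl hql
  obtain ⟨h5, -⟩ := key q p r' l' hc.symm h2 hr' hrl' hql'
  refine hcon ⟨q, r, p, l, hc.symm, hql, hrl, hc.ne_last (by omega) hr, hr.symm, h5, h3, fun a ha b hb => ?_⟩
  have h6 := h4 b hb a ha
  have e : a * b * a⁻¹ * b⁻¹ = (b * a * b⁻¹ * a⁻¹)⁻¹ := by group
  rw [e]
  exact inv_mem h6

section frm

variable [Finite G] (D : Geom inc R W V s t) (F : Frm inc R W V p l Sy ρ π ζ T lam U Kh) (hF : FullAt R W p)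
  (hn : 3 ≤ n)
include D F hF hn

/-- **(E5)** -/
theorem typeI_of_one {a b : X} (hc : Crit inc W n a b) (h1 : ¬ DP inc W a b) (h2 : DP inc W b a) :
    ∃ p x q l, TypeI inc R W n p x q l := by
  have hNO := F.noOver D
  obtain ⟨r₁, l₁, hr₁, hrl₁, hal₁⟩ := hc.symm.last (by omega)
  obtain ⟨r₂, l₂, hr₂, hrl₂, hbl₂⟩ := hc.last (by omega)
  obtain ⟨x, m, f, hM⟩ := h2.mdat D hn hc.symm hr₁ hrl₁ hal₁
  rcases alternative hM hNO with h3 | ⟨hq, -⟩
  · exact ⟨_, _, _, _, h3⟩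
  exfalso
  obtain ⟨Sy₁, ρ₁, π₁, ζ₁, F₁⟩ := F.at_flag D hal₁
  obtain ⟨Sy₂, ρ₂, π₂, ζ₂, F₂⟩ := F.at_flag D hbl₂
  have htp := tp_of D hc (by omega) h1
  have hE : ExP inc R W V n a b := ExP.of_good D hNO hc (by omega) (htp.good D) fun c hc' hcc u hu => by
    exact comm_eq_one.1 (hq _ (hcc u hu) (Asm.comm_mem' D hc (by omega) hc' hu))
  have hex := RF.exact D F₁.toRF (hE.ex r₁ l₁ hr₁ hrl₁ hal₁)
  have hr₁a : r₁ ≠ a := hc.symm.ne_last (by omega) hr₁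
  refine false_of_tp D F₁.toRD hc (by omega) hrl₁ hr₁a htp hq F₂.toRF
    (tlTwo F₁.flag F₁.no (lam_ti D F₁.toRD)) hn hex.card (hex.le.trans (o2_le _)) fun g hg hg1 => ?_
  obtain ⟨h, hh, bd⟩ := exists_bad D F₁.toRD hc (by omega) hrl₁ hr₁.symm h1 hg hg1
  exact ⟨h, hh, bd.mv, fun v hv w hw => bd.comm_mem D (hF.all D F a) hw hv⟩

/-- **A goal pair exists**, `TypeI` form. -/
theorem exists_typeI {a b : X} (hc : Crit inc W n a b) : ∃ p x q l, TypeI inc R W n p x q l := by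
  by_cases h1 : DP inc W a b
  · by_cases h2 : DP inc W b a
    · exact typeI_of_both D (F.noOver D) hn hc h1 h2
    · exact typeI_of_one D F hF hn hc.symm h2 h1
  · by_cases h2 : DP inc W b a
    · exact typeI_of_one D F hF hn hc h1 h2
    · exfalso
      obtain ⟨r₁, l₁, hr₁, hrl₁, hal₁⟩ := hc.symm.last (by omega)
      obtain ⟨r₂, l₂, hr₂, hrl₂, hbl₂⟩ := hc.last (by omega)
      obtain ⟨Sy₁, ρ₁, π₁, ζ₁, F₁⟩ := F.at_flag D hal₁
      obtain ⟨Sy₂, ρ₂, π₂, ζ₂, F₂⟩ := F.at_flag D hbl₂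
      exact false_of_two D F₁.toRD F₂.toRD hc hn (hF.all D F a) (hF.all D F b) h1 h2 hrl₁ hr₁.symm hrl₂ hr₂.symm

/-- **A goal pair exists.** -/
theorem exists_gg {a b : X} (hc : Crit inc W n a b) : ∃ k y, k + 1 = n ∧ GG inc R W k y := by
  obtain ⟨k, rfl⟩ : ∃ k, n = k + 1 := ⟨n - 1, by omega⟩
  obtain ⟨p', x', q', l', h⟩ := exists_typeI D F hF hn hc
  obtain ⟨y, hy⟩ := gg_of_typeI h
  exact ⟨k, y, rfl, hy⟩

end frm

end Cfsg.Agent.Omega.NO3S.FarQ.Free
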