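import Cfsg.Agent.Mrg.Omega.NOThree.LL.OrbSum
import Cfsg.Agent.Mrg.Omega.NO3S.FarQ.FOne
import Cfsg.Agent.Involutions.BaerSuzuki
import Cfsg.Agent.Lib.GoldschmidtFusion
import Cfsg.Agent.ZN.Block


/-!
# NO-3S FarQ, K-free: THEOREM SUM over `FlagK` (bb OMEGA #19037, helper244)

* `FlagK.no_normal_two`, `FlagK.odd_inv` : `O₂(H) = 1`; Baer-Suzuki: an involution inverts some `h ≠ 1` of odd order;
* `FlagK.smul_ne` : `f ∈ O₂(C_H(lam))` inverting `h`: `h • a ≠ a` for `a ∈ lam#`;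
* `sum_flag` : `1 ≠ A ≤ O₂(C_H(lam)) ∩ C_H(U) ∩ C_H(M/U)` exact, (NO), `q ≥ 4` ==> `[M, A]` meets `⋃ lam^H` nontrivially.
-/

set_option autoImplicit false
set_option linter.unusedSectionVars false

namespace Cfsg.Agent.Omega.NO3S.FarQ

open Subgroup Cfsg Cfsg.Agent.ZN Cfsg.Agent.ZN.Block
open Cfsg.Agent.ClassTwoFusion.Quad (cv mem_cv cv_anti)

variable {H M : Type*} [Group H] [CommGroup M] [MulDistribMulAction H M]

namespace Free

/-- the additive version of the action -/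
@[reducible] def addAct (H M : Type*) [Group H] [CommGroup M] [MulDistribMulAction H M] :
    DistribMulAction H (Additive M) where
  smul h m := Additive.ofMul (h • m.toMul)
  one_smul m := by change Additive.ofMul ((1 : H) • m.toMul) = m; rw [one_smul]; rfl
  mul_smul a b m := by
    change Additive.ofMul ((a * b) • m.toMul) = Additive.ofMul (a • (b • m.toMul))
    rw [mul_smul]
  smul_zero a := by change Additive.ofMul (a • (1 : M)) = 0; rw [smul_one]; rfl
  smul_add a m n := by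
    change Additive.ofMul (a • (m.toMul * n.toMul)) = Additive.ofMul (a • m.toMul * (a • n.toMul))
    rw [smul_mul']

end Free

variable {T : Subgroup H} {lam U : Subgroup M}

/-- a normal 2-subgroup of `H` is trivial -/
theorem FlagK.no_normal_two (F : FlagK T lam) (N : Subgroup H) [N.Normal] (h2 : IsPGroup 2 N) : N = ⊥ := by
  have := F.finH
  have hfact : Fact (Nat.Prime 2) := ⟨Nat.prime_two⟩
  have h3 : N ≤ T := by
    have h4 : T.relIndex N ∣ T.index := Cfsg.Agent.Lib.GoldschmidtFusion.relIndex_dvd_index_of_normal_right T N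
    have h5 : ¬ 2 ∣ T.relIndex N := fun hd => F.ndvd (hd.trans h4)
    obtain ⟨m, hm⟩ := IsPGroup.iff_card.1 h2
    have h6 : T.relIndex N ∣ 2 ^ m := by
      rw [← hm]
      exact Subgroup.relIndex_dvd_card T N
    obtain ⟨k, -, hk⟩ := (Nat.dvd_prime_pow Nat.prime_two).1 h6
    have h7 : T.relIndex N = 1 := by
      rcases Nat.eq_zero_or_pos k with e | e
      · rw [hk, e, pow_zero]
      · exact absurd (hk ▸ dvd_pow_self 2 (by omega)) h5
    exact relIndex_eq_one.1 h7
  have h4 : zm M N = ⊤ := by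
    refine F.gen _ fun h a ha => ?_
    intro n hn
    have hn' : h⁻¹ * n * h ∈ N := by
      have := Subgroup.Normal.conj_mem ‹N.Normal› n hn h⁻¹
      rwa [inv_inv] at this
    have h5 := F.fix _ (h3 hn') a ha
    rw [mul_smul, mul_smul, inv_smul_eq_iff] at h5
    exact h5
  rw [eq_bot_iff]
  intro n hn
  exact F.faith n fun m => (h4 ▸ mem_top m : m ∈ zm M N) n hn

/-- **Baer-Suzuki.** -/
theorem FlagK.odd_inv (F : FlagK T lam) {f : H} (hf : f * f = 1) (hf1 : f ≠ 1) :
    ∃ h : H, h ≠ 1 ∧ Odd (orderOf h) ∧ f * h * f⁻¹ = h⁻¹ := by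
  have := F.finH
  refine Cfsg.Agent.Involutions.BaerSuzuki.exists_odd_inverted f hf fun h1 => ?_
  have h2 := F.no_normal_two _ h1
  exact hf1 (Subgroup.mem_bot.1 (h2 ▸ subset_normalClosure (Set.mem_singleton f)))

/-- `h f h⁻¹ f⁻¹ = h²` -/
theorem conj_mul_inv {f h : H} (hi : f * h * f⁻¹ = h⁻¹) : h * f * h⁻¹ * f⁻¹ = h * h := by
  have h2 := congrArg (·⁻¹) hi
  simp only [mul_inv_rev, inv_inv] at h2
  calc h * f * h⁻¹ * f⁻¹ = h * (f * (h⁻¹ * f⁻¹)) := by group
    _ = h * h := by rw [h2]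

/-- an element of `O₂(C_H(lam))` inverting `h ≠ 1` of odd order: `h` moves every `a ∈ lam#` -/
theorem FlagK.smul_ne (F : FlagK T lam) {f h : H} (hf : f ∈ o2 (fixer lam)) (hh : h ≠ 1) (ho : Odd (orderOf h))
    (hi : f * h * f⁻¹ = h⁻¹) {a : M} (ha : a ∈ lam) (ha1 : a ≠ 1) : h • a ≠ a := by
  have := F.finH
  intro h1
  have h2 : h ∈ fixer lam := F.lin a ha ha1 h h1
  have h3 : h * h ∈ o2 (fixer lam) := by
    rw [← conj_mul_inv hi]
    exact mul_mem (o2_conj h2 hf) (inv_mem hf)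
  have h4 : h ∈ o2 (fixer lam) := NOThree.LL.One.mem_of_sq ho h3
  obtain ⟨k, hk⟩ := (o2_isPGroup (fixer lam)) ⟨h, h4⟩
  have h5 : h ^ 2 ^ k = 1 := congrArg Subtype.val hk
  have h6 : orderOf h ∣ 2 ^ k := orderOf_dvd_of_pow_eq_one h5
  obtain ⟨j, -, hj⟩ := (Nat.dvd_prime_pow Nat.prime_two).1 h6
  rcases Nat.eq_zero_or_pos j with e | e
  · rw [e, pow_zero, orderOf_eq_one_iff] at hj
    exact hh hj
  · rw [hj] at ho
    exact absurd (dvd_pow_self 2 (by omega)) (fun hd => (Nat.not_even_iff_odd.2 ho) (even_iff_two_dvd.2 hd))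

/-- `C(f) ∩ C(h f h⁻¹) ≤ C(h)` -/
theorem fix_of_two {f h : H} (ho : Odd (orderOf h)) (hi : f * h * f⁻¹ = h⁻¹) {m : M} (h1 : f • m = m)
    (h2 : (h * f * h⁻¹) • m = m) : h • m = m := by
  have h3 : (h * h) • m = m := by
    rw [← conj_mul_inv hi, mul_smul, inv_smul_eq_iff.2 h1.symm, h2]
  exact NOThree.LL.One.mem_of_sq ho (T := MulAction.stabilizer H m) h3

/-- **THEOREM SUM over `FlagK`.** -/
theorem sum_flag (F : FlagK T lam) (hle : lam ≤ U)
    (uu : ∀ u ∈ U, u ∉ lam → ∀ a ∈ lam, ∃ h : H, h • u = u * a) (hNO : NoOv (H := H) lam) {A : Subgroup H}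
    (hA : A ≤ o2 (fixer lam)) (hA1 : ∀ a ∈ A, ∀ u ∈ U, a • u = u) (hA2 : ∀ a ∈ A, ∀ m : M, (a • m) * m⁻¹ ∈ U)
    (hne : A ≠ ⊥) (hex : Nat.card A = (zm M A).index) :
    ∃ m ∈ em M A, m ≠ 1 ∧ ∃ h : H, ∃ a ∈ lam, m = h • a := by
  classical
  have := F.finH
  have := F.finM
  -- a minimal exact subgroup
  obtain ⟨B, hBs, hBmin⟩ := (Set.toFinite {B : Subgroup H | B ≤ A ∧ B ≠ ⊥ ∧ Nat.card B = (zm M B).index}).exists_minimal
    ⟨A, le_rfl, hne, hex⟩
  obtain ⟨hBA, hB0, hBex⟩ := hBs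
  let _ : DistribMulAction H (Additive M) := Free.addAct H M
  let U' : AddSubgroup (Additive M) := Subgroup.toAddSubgroup U
  let L' : AddSubgroup (Additive M) := Subgroup.toAddSubgroup lam
  have two : ∀ m : Additive M, m + m = 0 := fun m => F.sq m.toMul
  have hcv : ∀ C : Subgroup H, Nat.card (NOThree.LL.One.cv (Additive M) C) = Nat.card (zm M C) := fun C =>
    Nat.card_congr (Equiv.refl _)
  have hBb : B ≤ NOThree.LL.One.bb U' := fun b hb => ⟨fun u hu => hA1 b (hBA hb) u hu, fun m => by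
    rw [sub_eq_add_neg]
    exact hA2 b (hBA hb) m.toMul⟩
  have hquad : ∀ a ∈ A, ∀ b ∈ A, ∀ m : M, b • ((a • m) * m⁻¹) = (a • m) * m⁻¹ := fun a ha b hb m =>
    hA1 b hb _ (hA2 a ha m)
  have hsq : ∀ a ∈ A, a * a = 1 := by
    intro a ha
    refine F.faith _ fun m => ?_
    have h1 := hquad a ha a ha m
    rw [smul_mul', smul_inv', ← mul_smul] at h1
    have h2 : (a * a) • m = (a • m) * m⁻¹ * (a • m) := by rw [← h1, inv_mul_cancel_right]
    rw [h2, mul_right_comm, F.sq, one_mul]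
    exact inv_eq_of_mul_eq_one_left (F.sq m)
  have hcomm : ∀ a ∈ A, ∀ b ∈ A, a * b = b * a := by
    intro a ha b hb
    have h1 : (a * b)⁻¹ = a * b := inv_eq_of_mul_eq_one_left (hsq _ (mul_mem ha hb))
    have h2 : a⁻¹ = a := inv_eq_of_mul_eq_one_left (hsq a ha)
    have h3 : b⁻¹ = b := inv_eq_of_mul_eq_one_left (hsq b hb)
    rw [mul_inv_rev, h2, h3] at h1
    exact h1.symm
  have hno : ∀ C : Subgroup H, C ≤ A → Nat.card C ≤ (zm M C).index := fun C hC =>
    hNO C (hC.trans hA) (fun a ha b hb => hcomm a (hC ha) b (hC hb)) (fun a ha => hsq a (hC ha))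
      (fun a ha b hb m => hquad a (hC ha) b (hC hb) m)
  -- `f`, `h`
  obtain ⟨f, hf, hf1⟩ := (Subgroup.bot_or_exists_ne_one B).resolve_left hB0
  obtain ⟨h, hh, ho, hi⟩ := F.odd_inv (hsq f (hBA hf)) hf1
  have hfQ : f ∈ o2 (fixer lam) := hA (hBA hf)
  have hmov : ∀ a ∈ lam, a ≠ 1 → h • a ≠ a := fun a ha ha1 => F.smul_ne hfQ hh ho hi ha ha1
  have hfix : ∀ u ∈ U, f • h • u = h • u → h • u = u := by
    intro u hu h1
    have h2 := fix_of_two ho hi h1 (by rw [mul_smul, mul_smul, inv_smul_smul, hA1 f (hBA hf) u hu])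
    exact smul_left_cancel h h2
  -- `|B| ≥ 4`
  have h4 : 4 ≤ Nat.card B := by
    let W : Subgroup M := lam.map (MulDistribMulAction.toMonoidHom M h)
    have hW : Disjoint W (zm M B) := by
      rw [Subgroup.disjoint_def]
      rintro x ⟨a, ha, rfl⟩ hx
      by_contra hx1
      have hx' : h • a ∈ zm M B := hx
      have ha1 : a ≠ 1 := by
        rintro rfl
        exact hx1 (smul_one h)
      exact hmov a ha ha1 (hfix a (hle ha) (hx' f hf))
    have hcW : Nat.card W = Nat.card lam :=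
      Nat.card_congr (Equiv.symm (Subgroup.equivMapOfInjective lam _ (MulAction.injective h)).toEquiv)
    rw [hBex]
    refine F.four.trans ?_
    rw [← hcW]
    have h5 : Nat.card W * Nat.card (zm M B) ≤ (zm M B).index * Nat.card (zm M B) := by
      rw [Subgroup.index_mul_card, ← Nat.card_prod]
      refine Nat.card_le_card_of_injective (fun x : W × zm M B => (x.1 : M) * (x.2 : M)) ?_
      rintro ⟨x, y⟩ ⟨x', y'⟩ he
      have he' : (x : M) * y = x' * y' := he
      have h6 : (x' : M)⁻¹ * x = y' * (y : M)⁻¹ := by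
        rw [inv_mul_eq_iff_eq_mul, ← mul_assoc, ← he', mul_inv_cancel_right]
      have h7 : (x' : M)⁻¹ * x = 1 := by
        have := Subgroup.disjoint_def.1 hW (mul_mem (inv_mem x'.2) x.2) (h6 ▸ mul_mem y'.2 (inv_mem y.2))
        exact this
      have h8 : (x : M) = x' := (inv_mul_eq_one.1 h7).symm
      have h9 : (y : M) = y' := by
        rw [h8] at he'
        exact mul_left_cancel he'
      exact Prod.ext (Subtype.ext h8) (Subtype.ext h9)
    exact Nat.le_of_mul_le_mul_right h5 Nat.card_pos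
  have me : NOThree.LL.One.ME (fun _ : Additive M => U') (0 : Additive M) B := by
    refine ⟨hBb, hB0, ?_, ?_⟩
    · rw [hcv, hBex]
      exact Subgroup.index_mul_card _
    · intro C hC hC0 hCB
      have h1 := hno C (hC.trans hBA)
      have h2 : Nat.card C ≠ (zm M C).index := by
        intro h3
        exact hCB (le_antisymm hC (hBmin ⟨hC.trans hBA, hC0, h3⟩ hC))
      have h3 : Nat.card C < (zm M C).index := lt_of_le_of_ne h1 h2
      have h5 : Nat.card M = (zm M C).index * Nat.card (zm M C) := (Subgroup.index_mul_card _).symm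
      rw [hcv]
      change _ < Nat.card M
      rw [h5]
      exact Nat.mul_lt_mul_of_pos_right h3 Nat.card_pos
  obtain ⟨a, ha, ha1⟩ := (Subgroup.bot_or_exists_ne_one lam).resolve_left (by
    intro h1
    have := F.four
    rw [h1, Subgroup.card_bot] at this
    omega)
  have hmain := NOThree.LL.OrbSum.sum_main (H := H) (M := Additive M) two
    (Lam := {x : Additive M | ∃ g : H, ∃ b ∈ lam, b ≠ 1 ∧ x.toMul = g • b}) (U := U') (L := L')
    (lam := Additive.ofMul a) (A := B) (f := f) (h := h)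
    ⟨1, a, ha, ha1, (one_smul H a).symm⟩ (hle ha)
    (by
      rintro g v ⟨k, b, hb, hb1, hv⟩
      refine ⟨g * k, b, hb, hb1, ?_⟩
      rw [mul_smul, ← hv]
      rfl)
    (fun r hr hr0 => ⟨1, r.toMul, hr, hr0, (one_smul H _).symm⟩)
    (by
      rintro v hv ⟨k, b, hb, hb1, hvk⟩ hvL
      obtain ⟨g, hg⟩ := uu v.toMul hv hvL a ha
      refine ⟨g * k, b, hb, hb1, ?_⟩
      rw [mul_smul, ← hvk]
      exact hg.symm)
    ha hBb (NOThree.LL.OrbSum.big_of_min two me h4) hf hi ho (hmov a ha ha1)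
    (fun u hu h1 => hfix u.toMul hu h1)
  obtain ⟨r, hr, hr0, k, b, hb, -, hrk⟩ := hmain
  refine ⟨r.toMul, ?_, hr0, k, b, hb, hrk⟩
  have h9 : NOThree.LL.One.cm (Additive M) B ≤ Subgroup.toAddSubgroup (em M A) :=
    NOThree.LL.One.cm_le fun c hc m => by
      rw [sub_eq_add_neg]
      exact comm_mem_em (hBA hc) m.toMul
  exact h9 hr

end Cfsg.Agent.Omega.NO3S.FarQ
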