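import Cfsg.Agent.Mrg.Omega.NO3S.FarQ.Free.HD
import Cfsg.Agent.Mrg.Omega.NO3S.FarQ.Free.HSum
import Cfsg.Agent.Mrg.Omega.NO3S.FarQ.Free.Exist
import Cfsg.Agent.Mrg.Omega.NO3S.PB.Geom
import Cfsg.Agent.Mrg.Omega.NO3S.FarB.Node


/-!
# FarQ (`q ≥ 4`, `n ≥ 3`), K-free: the end

* `no_gg` : over `Frm` there is no goal pair;
* `false_of_full` : over `Frm`, with `FullAt` there is no critical pair at distance `n ≥ 3`;
* `exists_frm` : the instance of `Frm` over the `(R, B)`-frame `PB`, from (NO) only;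
* `farBF` : **the socket `FarBF K`** from (ML).
-/

set_option autoImplicit false
set_option linter.unusedSectionVars false

namespace Cfsg.Agent.Omega.NO3S.FarQ.Free

open Subgroup Cfsg Cfsg.Agent.ZN Cfsg.Agent.MinSimple.VModule Cfsg.Agent.Omega.NOThree.Pts
open Cfsg.Agent.Omega.NO3S.FarQ (KNO Img kno_of_mlk)
open Cfsg.Agent.Omega.NO3S.FarQ.Glue

section abs

variable {G X L : Type*} [Group G] [MulAction G X] [MulAction G L]
variable {inc : X → L → Prop} {R W : X → Subgroup G} {V : L → Subgroup G} {s t k n : ℕ}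
variable {H M K : Type*} [Group H] [CommGroup M] [MulDistribMulAction H M] [CommGroup K]
variable {p : X} {l : L} {Sy : Subgroup G} {ρ : G → H} {π : G → M} {ζ : K →* G} {T : Subgroup H}
  {lam U : Subgroup M} {Kh : Subgroup (M →* K)}

/-- **Over `Frm` there is no goal pair.** -/
theorem no_gg [Finite G] (D : Geom inc R W V s t) (F : Frm inc R W V p l Sy ρ π ζ T lam U Kh) (hk : 2 ≤ k)
    {y : ℕ → X} (h : GG inc R W k y) : False :=
  no_goal D (F.line_all D) (F.noOver D) hk (hD D F hk) (hT D F hk) (hs D F hk) h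

/-- **FarQ, K-free**: no critical pair at distance `n ≥ 3`. -/
theorem false_of_full [Finite G] (D : Geom inc R W V s t) (F : Frm inc R W V p l Sy ρ π ζ T lam U Kh)
    (hF : FullAt R W p) (hn : 3 ≤ n) {a b : X} (hc : Crit inc W n a b) : False := by
  obtain ⟨k, y, hk, hy⟩ := exists_gg D F hF hn hc
  exact no_gg D F (by omega) hy

end abs

universe u

open Cfsg.Agent.Omega.NO3S.PT Cfsg.Agent.Omega.NO3S.PtGeom
open Cfsg.Agent.Omega.ML.Final (MLK)
open Cfsg.Agent.Omega.MinPar Cfsg.Agent.Omega.Frame Cfsg.Agent.Omega.FrameNOFF Cfsg.Agent.Omega.NatPair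

variable {G : Type u} [Group G] [Finite G] {S : Sylow 2 G} {B P V Z : Subgroup G}

/-- **(F1) from `FullK`.** -/
theorem hf_of_full (h : PB S B P V Z) (hF : FullK V Z) : ¬ kx V Z ≤ centralizer (V : Set G) := by
  intro hcon
  obtain ⟨w, hw, hwZ⟩ := h.exists_out
  obtain ⟨z, hz, hz1⟩ := Z.bot_or_exists_ne_one.resolve_left h.Zne
  obtain ⟨k, hk, e⟩ := hF w (h.V_le_ws h.ZV hw) hwZ z hz
  apply hz1
  rw [← e, ← mem_centralizer_iff.1 (hcon hk) w hw, mul_inv_cancel_right, mul_inv_cancel]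

/-- **The instance of `Frm`** over the `(R, B)`-frame, from (F1), (T6) and (NO). -/
theorem exists_frm (h : PB S B P V Z) (hf : ¬ kx V Z ≤ centralizer (V : Set G)) (hO : OmB B V)
    (hq : 4 ≤ Nat.card Z) (hNO : KNO.{u} (fun H _ => Img (centralizer (Z : Set G)) H)) :
    ∃ (H M K : Type u) (_ : Group H) (_ : CommGroup M) (_ : MulDistribMulAction H M) (_ : CommGroup K)
      (ρ : G → H) (π : G → M) (ζ : K →* G) (T : Subgroup H) (lam U : Subgroup M) (Kh : Subgroup (M →* K)),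
      Frm (inc (Z := Z) (V := V)) (fun x => x.sg) (fun x => ws V x.sg) (fun l => l.sg) (Pt.base Z) (Pt.base V)
        B ρ π ζ T lam U Kh := by
  obtain ⟨H, M, K, iH, iM, iA, iK, ρ, π, ζ, T, lam, U, Kh, F⟩ := FarB.exists_rd h hf hO hq
  have hI : Img (centralizer (Z : Set G)) H :=
    ⟨MonoidHom.mk' (fun a => ρ a) (fun a b => F.re.mul a a.2 b b.2), fun x => by
      obtain ⟨g, hg, rfl⟩ := F.re.surj x
      exact ⟨⟨g, hg⟩, rfl⟩⟩
  exact ⟨H, M, K, iH, iM, iA, iK, ρ, π, ζ, T, lam, U, Kh,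
    { toRD := F, fl := RealB2.fl h, cl := RealB2.cl h, no := hNO H M T lam hI F.flag.toK, f2 := RealB2.f2 h hf hO }⟩

/-- `FullK` at the base point is `FullAt` -/
theorem fullAt_of (hF : FullK V Z) :
    FullAt (fun x : Pt Z => x.sg) (fun x : Pt Z => ws V x.sg) (Pt.base Z) := by
  intro w hw hwZ z hz
  obtain ⟨k, hk, e⟩ := hF w hw hwZ z hz
  exact ⟨k, ⟨(mem_kx.1 hk).1, (mem_kx.1 hk).2⟩, e⟩

/-- **Over the `(R, B)`-frame with `FullK` there is no critical pair at distance `n ≥ 3`.** -/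
theorem far_of_full (h : PB S B P V Z) (hO : OmB B V) (hq : 4 ≤ Nat.card Z) (hF : FullK V Z)
    (hNO : KNO.{u} (fun H _ => Img (centralizer (Z : Set G)) H)) {n : ℕ} (hn : 3 ≤ n) {x y : Pt Z}
    (hc : Crit (inc (Z := Z) (V := V)) (fun x : Pt Z => ws V x.sg) n x y) : False := by
  have hf := hf_of_full h hF
  obtain ⟨H, M, K, iH, iM, iA, iK, ρ, π, ζ, T, lam, U, Kh, F⟩ := exists_frm h hf hO hq hNO
  exact false_of_full (PB.Geom.geom h hf hO) F (fullAt_of hF) hn hc

/-- (NO) for `C_G(R)` -/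
theorem kno {R : Subgroup G} (h : Hyp S P) (hR : R ≠ ⊥) (hML : MLK.{u, u}) :
    KNO.{u} (fun H _ => Img (centralizer (R : Set G)) H) :=
  (kno_of_mlk hML).mono fun H _ hI => FarQ.kgroup_of_img h.ctx.kproper (FarB.centralizer_ne_top h hR) H hI

/-- **The socket `FarBF`** from (ML). -/
theorem farBF {K : Cls.{u}} (hML : MLK.{u, u}) : NO3S.FarBF K := by
  intro G _ _ _ S P h F _ _ _ hF _ B R hB hFull n y hn hc
  exact (far_of_full hB.pb hB.om (hB.card.symm ▸ hF) hFull (kno h.toHyp hB.pb.Zne hML) hn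
    (PB.Geom.crit hB.pb hB.pb.V_eq hc)).elim

end Cfsg.Agent.Omega.NO3S.FarQ.Free
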