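import Cfsg.Agent.Mrg.Omega.NO3S.FarQ.End
import Cfsg.Agent.Mrg.Omega.NO3S.FarQ.Free.Canon
import Cfsg.Agent.Mrg.Omega.NO3S.FarQ.Glue
import Cfsg.Agent.Mrg.Omega.NO3S.FarQ.Free.Chain
import Cfsg.Agent.Mrg.Omega.NOThree.Pts

section


/-!
# FarQ (`q ≥ 4`, `n ≥ 3`), K-free: TERMINAL goal pairs (`HT`)

TEXT: helper404 #18922 (4.1), helper937 #18718 (4.3).

* `MDat.two_le` , `MDat.fine` : in case (β) `w ∈ W_x`, `[w, f] ∈ R_q` imply `[w, W_q] ≤ R_q`;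
* `Frm.exists_js` : the group `J` of the flag;
* `HB` : BAD for goal pairs (helper533);
* **`term`** : `HB → HT`.
-/

set_option autoImplicit false
set_option linter.unusedSectionVars false

namespace Cfsg.Agent.Omega.NO3S.FarQ.Free

open Subgroup Cfsg Cfsg.Agent.ZN Cfsg.Agent.MinSimple.VModule Cfsg.Agent.Omega.NOThree.Pts
open Cfsg.Agent.Omega.NOThree.LemmaM Cfsg.Agent.Omega.NOThree.LemmaMPlus
open Cfsg.Agent.Omega.NO3S.FarQ.Glue Cfsg.Agent.Omega.NO3S.FarQ.Asm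
open Cfsg.Agent.Omega.NO3S.FarQ.Free.Canon

variable {G X L : Type*} [Group G] [MulAction G X] [MulAction G L]
variable {inc : X → L → Prop} {R W : X → Subgroup G} {V : L → Subgroup G} {s t n : ℕ}
variable {H M K : Type*} [Group H] [CommGroup M] [MulDistribMulAction H M] [CommGroup K]

section md

variable {p q r x : X} {l m : L} {f : G} (h : MDat inc R W V s t n p q r x l m f)
include h

/-- `w ∈ W_x`, `[w, f] ∈ R_q` imply `[w, W_q] ≤ R_q` in case (β) -/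
theorem fine [Finite G] (hc : Com W x r) (hNO : NoOver inc R W V) {w : G} (hw : w ∈ W x)
    (hwf : w * f * w⁻¹ * f⁻¹ ∈ R q) : ∀ u ∈ W q, w * u * w⁻¹ * u⁻¹ ∈ R q := by
  have h3 := h.three
  have hcR : ∀ a ∈ W x, ∀ c ∈ R q, a * c = c * a := fun a ha c hcc => hc a ha c (h.R_le_r hcc)
  have hrq : r ≠ q := h.crit.ne_last (by omega) h.walk
  set N := Cfsg.Agent.Omega.NOThree.LemmaM.cm (W x) (W q) (R q) hcR with hNdef
  have hqR : ∀ a ∈ W q, ∀ c ∈ R q, a * c = c * a := fun a ha c hcc => h.D.comm q a ha c (h.D.R_le_W q hcc)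
  have hC : ∀ u, u ∈ Cfsg.Agent.Omega.NOThree.LemmaM.cm (W q) (W x) (R q) hqR ↔ u ∈ W q ∧ ∀ a ∈ W x, a * u * a⁻¹ * u⁻¹ ∈ R q := by
    intro u
    rw [Cfsg.Agent.Omega.NOThree.LemmaM.mem_cm]
    refine and_congr_right fun hu => forall₂_congr fun a ha => ?_
    have e : a * u * a⁻¹ * u⁻¹ = (u * a * u⁻¹ * a⁻¹)⁻¹ := by group
    rw [e, inv_mem_iff]
  set C := Cfsg.Agent.Omega.NOThree.LemmaM.cm (W q) (W x) (R q) hqR with hCdef
  have hle : W q ⊓ W r ≤ C := by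
    intro u hu
    rw [hC]
    refine ⟨hu.1, fun a ha => ?_⟩
    have e : a * u * a⁻¹ * u⁻¹ = 1 := by rw [hc a ha u hu.2]; group
    rw [e]; exact one_mem _
  have h2 : (W q ⊓ W r).relIndex (W q) = t := h.D.index q r l h.ql h.rl hrq.symm
  have hA : W x ≤ o2 (centralizer (V l : Set G)) :=
    h.D.low_line h.crit.min h.walk' le_rfl hc h.rl
  have h4 : N.relIndex (W x) ≤ C.relIndex (W q) := by
    refine hNO q l h.ql (W x) hA (h.D.comm x) (h.D.sq x) ?_ ?_ N C (fun a => Cfsg.Agent.Omega.NOThree.LemmaM.mem_cm) hC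
    · intro y hy hyq a ha u hu huy
      exact hc a ha u (h.D.inf_le h.ql hy h.rl hyq.symm ⟨hu, huy⟩)
    · intro a ha b hb u hu
      exact h.comm_comm hu ha hb
  have h5 : C.relIndex (W q) ≤ t := by
    rw [← h2]
    exact relIndex_le_of_le_left hle (relIndex_ne_zero' _ _)
  -- `D₁ = {w : [w, f] ∈ R_q}`
  let D₁ : Subgroup G :=
    { carrier := {a | a ∈ W x ∧ a * f * a⁻¹ * f⁻¹ ∈ R q}
      one_mem' := ⟨one_mem _, by simp⟩
      mul_mem' := by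
        rintro a b ⟨ha, ha'⟩ ⟨hb, hb'⟩
        refine ⟨mul_mem ha hb, ?_⟩
        rw [h.comm_mul h.f_mem ha hb]
        exact mul_mem ha' hb'
      inv_mem' := by
        rintro a ⟨ha, ha'⟩
        refine ⟨inv_mem ha, ?_⟩
        have h1 := h.comm_mul h.f_mem ha (inv_mem ha)
        rw [mul_inv_cancel] at h1
        have e : (1 : G) * f * 1⁻¹ * f⁻¹ = 1 := by group
        rw [e] at h1
        rw [← inv_eq_of_mul_eq_one_right h1.symm]
        exact inv_mem ha' }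
  let D₀ : Subgroup G := W x ⊓ centralizer {f}
  have hD₀ : ∀ a, a ∈ D₀ ↔ a ∈ W x ∧ f * a = a * f := by
    intro a
    rw [mem_inf, mem_centralizer_singleton_iff]
    exact ⟨fun h => ⟨h.1, h.2.symm⟩, fun h => ⟨h.1, h.2.symm⟩⟩
  have g1 := h.index_le D₀ hD₀
  have h01 : D₀ ≤ D₁ := by
    intro a ha
    obtain ⟨ha1, ha2⟩ := (hD₀ a).1 ha
    refine ⟨ha1, ?_⟩
    have e : a * f * a⁻¹ * f⁻¹ = 1 := by rw [← ha2]; group
    rw [e]; exact one_mem _
  have hN1 : N ≤ D₁ := fun a ha => ⟨(Cfsg.Agent.Omega.NOThree.LemmaM.mem_cm.1 ha).1, (Cfsg.Agent.Omega.NOThree.LemmaM.mem_cm.1 ha).2 f h.f_mem⟩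
  have g2 : D₀.relIndex D₁ ≤ s := by
    rw [← h.D.card q]
    refine relIndex_le_card (fun a => a * f * a⁻¹ * f⁻¹) (fun a ha => ha.2)
      (fun a ha b hb => h.comm_mul h.f_mem ha.1 hb.1) ?_
    intro a ha hfa
    rw [hD₀]
    refine ⟨ha.1, ?_⟩
    have h5 : a * f * a⁻¹ * f⁻¹ = 1 := hfa
    have h6 : a * f * a⁻¹ = f := mul_inv_eq_one.1 h5
    calc f * a = a * f * a⁻¹ * a := by rw [h6]
      _ = a * f := by group
  have g3 : D₀.relIndex D₁ * D₁.relIndex (W x) = D₀.relIndex (W x) :=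
    relIndex_mul_relIndex _ _ _ h01 fun a ha => ha.1
  have g4 : t ≤ D₁.relIndex (W x) := by
    have hs : 0 < s := by have := h.D.two_le; omega
    have h5 : s * t ≤ s * D₁.relIndex (W x) := by
      calc s * t ≤ D₀.relIndex (W x) := g1
        _ = D₀.relIndex D₁ * D₁.relIndex (W x) := g3.symm
        _ ≤ s * D₁.relIndex (W x) := Nat.mul_le_mul_right _ g2
    exact Nat.le_of_mul_le_mul_left h5 hs
  have g5 : D₁ ≤ N := le_of_relIndex_eq hN1 (fun a ha => ha.1) (h4.trans (h5.trans g4))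
  exact (Cfsg.Agent.Omega.NOThree.LemmaM.mem_cm.1 (g5 (show w ∈ D₁ from ⟨hw, hwf⟩))).2

end md

/-- **BAD** for goal pairs (helper533, `Free/Bad.lean`) -/
def HB (inc : X → L → Prop) (R W : X → Subgroup G) (V : L → Subgroup G) (k : ℕ) : Prop :=
  ∀ y : ℕ → X, GG inc R W k y → ∀ l, inc (y 0) l → inc (y 1) l → ∀ f h : G, f ∈ W (y (k + 1)) →
    h ∈ centralizer (R (y 0) : Set G) → Odd (orderOf h) → f * h * f⁻¹ = h⁻¹ → f • h • y 1 ≠ h • y 1 →
    ¬ DD W y (h • y 1) f → ∀ v ∈ R (h • y 1), ∀ w ∈ W (y (k + 1)), v * w * v⁻¹ * w⁻¹ ∈ V l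

section frm

variable {p : X} {l : L} {Sy : Subgroup G} {ρ : G → H} {π : G → M} {ζ : K →* G} {T : Subgroup H}
  {lam U : Subgroup M} {Kh : Subgroup (M →* K)}
variable (D : Geom inc R W V s t) (F : Frm inc R W V p l Sy ρ π ζ T lam U Kh)
include D F

/-- a second point on the line -/
theorem Frm.exists_second : ∃ x, inc x l ∧ x ≠ p := by
  obtain ⟨a, ha, ha1⟩ : ∃ a ∈ lam, a ≠ 1 := by
    by_contra hcon
    push Not at hcon
    have h1 : lam = ⊥ := eq_bot_iff.2 fun x hx => mem_bot.2 (hcon x hx)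
    have h2 := F.flag.four
    rw [h1, Subgroup.card_bot] at h2
    omega
  obtain ⟨v, hv, rfl⟩ := (F.mlam a).1 ha
  obtain ⟨x, hx, hvx⟩ := D.cover l v hv
  refine ⟨x, hx, ?_⟩
  rintro rfl
  exact ha1 ((F.re.pker v (D.V_le _ l F.pl hv)).2 hvx)

/-- **`J` of the flag** -/
theorem Frm.exists_js : ∃ J : Subgroup H, JS lam U J := by
  obtain ⟨x, hx, hxp⟩ := F.exists_second D
  have hpR : centralizer (V l : Set G) ≤ centralizer (R p : Set G) := centralizer_le (D.R_le p l F.pl)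
  have hcx : ∀ a ∈ centralizer (V l : Set G), ∀ c ∈ R x, a * c = c * a := fun a ha c hc =>
    (mem_centralizer_iff.1 ha c (D.R_le x l hx hc)).symm
  have hA : Cfsg.Agent.Omega.NOThree.LemmaM.cm (centralizer (V l : Set G)) (W x) (R x) hcx ≤ centralizer (R p : Set G) := fun a ha =>
    hpR (Cfsg.Agent.Omega.NOThree.LemmaM.mem_cm.1 ha).1
  refine ⟨im F.re _ hA, ?_, ?_, ?_⟩
  · rintro _ ⟨c, hc, rfl⟩ a ha
    obtain ⟨v, hv, rfl⟩ := (F.mlam a).1 ha
    rw [← F.re.act c (hA hc) v (D.V_le p l F.pl hv)]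
    have h1 := mem_centralizer_iff.1 (Cfsg.Agent.Omega.NOThree.LemmaM.mem_cm.1 hc).1 v hv
    rw [← h1, mul_inv_cancel_right]
  · rintro _ ⟨c, hc, rfl⟩ u hu
    obtain ⟨w, hw, hwy, rfl⟩ := (F.mU u).1 hu
    rw [← π_comm F.re D (hA hc) hw]
    exact (F.mlam _).2 ⟨_, D.R_le x l hx ((Cfsg.Agent.Omega.NOThree.LemmaM.mem_cm.1 hc).2 w (hwy x hx)), rfl⟩
  · intro u hu hul a ha
    obtain ⟨w, hw, hwy, rfl⟩ := (F.mU u).1 hu
    obtain ⟨v, hv, rfl⟩ := (F.mlam a).1 ha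
    have hwV : w ∉ V l := fun e => hul ((F.mlam _).2 ⟨w, e, rfl⟩)
    obtain ⟨r, hr, r', hr', rfl⟩ := F.line x hx hxp v hv
    obtain ⟨c, hc, hcx', hcu⟩ := F.f2 w hwy hwV x hx r' hr'
    have hcm : c ∈ Cfsg.Agent.Omega.NOThree.LemmaM.cm (centralizer (V l : Set G)) (W x) (R x) hcx := Cfsg.Agent.Omega.NOThree.LemmaM.mem_cm.2 ⟨hc, hcx'⟩
    refine ⟨ρ c, ⟨c, hcm, rfl⟩, ?_⟩
    rw [← F.re.act c (hA hcm) w hw]
    have e : c * w * c⁻¹ = r' * w := by rw [← hcu]; group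
    have hrW : r ∈ W p := D.R_le_W p hr
    have hr'W : r' ∈ W p := D.V_le p l F.pl (D.R_le x l hx hr')
    rw [e, F.re.pmul r' hr'W w hw, F.re.pmul r hrW r' hr'W, (F.re.pker r hrW).2 hr, one_mul, mul_comm]

/-- `|M : U| = t` -/
theorem Frm.index_U : U.index = t := by
  obtain ⟨x, hx, hxp⟩ := F.exists_second D
  let ψ : W p →* M := MonoidHom.mk' (fun a => π a) (fun a b => F.re.pmul a a.2 b b.2)
  have hψ : Function.Surjective ψ := fun m => by
    obtain ⟨u, hu, rfl⟩ := F.re.psurj m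
    exact ⟨⟨u, hu⟩, rfl⟩
  have h1 : U.comap ψ = (W p ⊓ W x).subgroupOf (W p) := by
    ext u
    rw [mem_subgroupOf, mem_comap]
    constructor
    · intro h
      obtain ⟨w, hw, hwy, he⟩ := (F.mU _).1 h
      refine ⟨u.2, ?_⟩
      have h2 : (u : G) * w⁻¹ ∈ R p := mem_mul_R F.re u.2 hw he.symm
      have h3 := mul_mem (R_le_of_col D ⟨l, F.pl, hx⟩ h2) (hwy x hx)
      rwa [inv_mul_cancel_right] at h3
    · rintro ⟨-, h⟩
      exact (F.mU _).2 ⟨u, u.2, fun y hy => D.inf_le F.pl hx hy hxp.symm ⟨u.2, h⟩, rfl⟩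
  rw [← index_comap_of_surjective _ hψ, h1]
  exact D.index p x l F.pl hx hxp.symm

end frm

section term

variable {k : ℕ} {p₀ : X} {l₀ : L} {Sy : Subgroup G} {ρ : G → H} {π : G → M} {ζ : K →* G} {T : Subgroup H}
  {lam U : Subgroup M} {Kh : Subgroup (M →* K)}
variable [Finite G] (D : Geom inc R W V s t) (F : Frm inc R W V p₀ l₀ Sy ρ π ζ T lam U Kh)
include D F

set_option maxHeartbeats 800000 in
/-- **Terminal goal pairs.** -/
theorem term (hk : 2 ≤ k) (hB : HB inc R W V k) : HT inc R W V k := by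
  intro y hy hall
  obtain ⟨l, hl0, hl1⟩ := hy.col 0 (Nat.zero_le _)
  obtain ⟨m, hmk, hmn⟩ := hy.col k le_rfl
  refine ⟨l, hl0, hl1, ?_⟩
  have hNO := F.noOver D
  obtain ⟨_, ρ₁, π₁, _, F₁⟩ := F.at_flag D hl0
  obtain ⟨_, ρ₂, π₂, _, F₂⟩ := F.at_flag D hmn
  have hcr : Crit inc W (k + 1) (y 0) (y (k + 1)) := hy.crit
  have h01 : y 0 ≠ y 1 := hy.toPth.ne_succ (Nat.zero_le _)
  have hkn : y k ≠ y (k + 1) := hy.toPth.ne_succ le_rfl
  have hw1 : Walk inc (k + 1 - 1) (y 1) (y (k + 1)) := by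
    have := hy.toPth.wk' (i := 1) (j := k + 1) (by omega) le_rfl
    simpa using this
  have hwk : Walk inc (k + 1 - 1) (y 0) (y k) := by
    have := hy.toPth.wk' (i := 0) (j := k) (by omega) (by omega)
    simpa using this
  have hE : ExP inc R W V (k + 1) (y 0) (y (k + 1)) := ExP.of_typeI D hNO hcr (by omega) hy.t1 hy.t2
  have hEx : Ex inc R W V (y 0) l (W (y (k + 1))) := hE.ex (y 1) l hw1.symm hl1 hl0
  have hEx' : Ex inc R W V (y (k + 1)) m (W (y 0)) := hE.ex' (y k) m hwk hmk hmn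
  have hqR : W (y (k + 1)) ≤ centralizer (R (y 0) : Set G) := RF.A_le D hEx
  have hpR : W (y 0) ≤ centralizer (R (y (k + 1)) : Set G) := RF.A_le D hEx'
  have hA : Exact lam (im F₁.re (W (y (k + 1))) hqR) := RF.exact D F₁.toRF hEx
  have hA' : Exact lam (im F₂.re (W (y 0)) hpR) := RF.exact D F₂.toRF hEx'
  have hRk : R (y (k + 1)) ≤ W (y k) := R_le_of_col D ⟨m, hmn, hmk⟩
  by_cases hbad : ∃ f h : G, f ∈ W (y (k + 1)) ∧ h ∈ centralizer (R (y 0) : Set G) ∧ Odd (orderOf h) ∧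
      f * h * f⁻¹ = h⁻¹ ∧ f • h • y 1 ≠ h • y 1 ∧ ¬ DD W y (h • y 1) f
  · obtain ⟨f, h, hf, hh, ho, hi, hne, hd⟩ := hbad
    obtain ⟨v, hv, hv1⟩ := D.exists_ne (h • y 1)
    have hhp : h • y 0 = y 0 := Four.fix_p D hh
    have hcol : Col inc (h • y 1) (y 0) := ⟨h • l, D.inc_smul h _ _ hl1, by
      have := D.inc_smul h _ _ hl0
      rwa [hhp] at this⟩
    refine ⟨v * f * v⁻¹ * f⁻¹, comm_mem_rr (R_le_of_col D hcol hv) hf, ?_,
      hB y hy l hl0 hl1 f h hf hh ho hi hne hd v hv f hf⟩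
    intro e
    exact hne (D.fix hv hv1 (comm_eq_one.1 e).symm)
  · push Not at hbad
    obtain ⟨J, hJ⟩ := F.exists_js D
    have hinv : ∀ h ∈ fixer (H := H) lam, ∀ u ∈ U, h • u ∈ U := by
      intro h hh u hu
      obtain ⟨g, hg, rfl⟩ := F.cov h hh
      obtain ⟨w, hw, hwy, rfl⟩ := (F.mU u).1 hu
      have hgR : g ∈ centralizer (R p₀ : Set G) := centralizer_le (D.R_le p₀ l₀ F.pl) hg
      have hfix : ∀ y, inc y l₀ → g • y = y := fun y hy => D.fix_of_centralizes fun a ha =>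
        (mem_centralizer_iff.1 hg a (D.R_le y l₀ hy ha)).symm
      rw [← F.re.act g hgR w hw]
      refine (F.mU _).2 ⟨_, D.norm_W (hfix _ F.pl) hw, fun y hy => D.norm_W (hfix _ hy) (hwy y hy), rfl⟩
    have hAB : ∀ a ∈ im F₁.re (W (y (k + 1))) hqR, IsBB U a := by
      rintro _ ⟨f, hf, rfl⟩
      refine ⟨fun u hu => ?_, fun m' => ?_⟩
      · obtain ⟨w, hw, hwy, rfl⟩ := (F₁.mU u).1 hu
        rw [← comm_mem_iff F₁.re D (hqR hf) hw, comm_eq_one.2 (hEx.cen (y 1) hl1 h01.symm f hf w hw (hwy _ hl1))]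
        exact one_mem _
      · obtain ⟨w, hw, rfl⟩ := F₁.re.psurj m'
        rw [← π_comm F₁.re D (hqR hf) hw]
        have h1 : f * w * f⁻¹ * w⁻¹ ∈ W (y 0) := mul_mem (Four.norm_p D (hqR hf) hw) (inv_mem hw)
        have h2 : f * w * f⁻¹ * w⁻¹ ∈ W (y 1) := comm_inv_mem.1 (hy.low w hw f hf)
        exact (F₁.mU _).2 ⟨_, h1, fun z hz => D.inf_le hl0 hl1 hz h01 ⟨h1, h2⟩, rfl⟩
    -- the mover of an `f` which is not trivial on `M_p`
    have hmov : ∀ f ∈ W (y (k + 1)), ρ₁ f ≠ 1 → ∃ x m', MDat inc R W V s t (k + 1) (y 0) (y (k + 1)) (y k) x m m' f ∧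
        Com W x (y k) := by
      intro f hf hf1
      obtain ⟨h, hh, ho, hi, -, -, hne, hcen⟩ := exists_mover_crit D F₁.toRD hcr (by omega) hl1 hw1 hf hf1
      have hhp : h • y 0 = y 0 := Four.fix_p D hh
      have hcl : inc (y 0) (h • l) := by
        have := D.inc_smul h _ _ hl0
        rwa [hhp] at this
      have hcl' : inc (h • y 1) (h • l) := D.inc_smul h _ _ hl1
      have hdd : DD W y (h • y 1) f := hbad f h hf hh ho hi hne
      refine ⟨h • y 1, h • l, ⟨D, by omega, hcr, hwk, hmk, hmn, hcl', hcl, hf, hne, hdd⟩, ?_⟩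
      exact hall _ _ ⟨hf, ⟨h • l, hcl', hcl⟩, hne, fun u hu _ hfu => hcen u hu hfu⟩ hdd
    -- a fixed mover
    obtain ⟨f₀, hf₀, hf₀1⟩ : ∃ f ∈ W (y (k + 1)), ρ₁ f ≠ 1 := by
      by_contra hcon
      push Not at hcon
      apply hA.ne
      rw [eq_bot_iff]
      rintro _ ⟨f, hf, rfl⟩
      exact mem_bot.2 (hcon f hf)
    obtain ⟨x₀, m₀, hM₀, hc₀⟩ := hmov f₀ hf₀ hf₀1
    -- the image of `W_x` in `H_q`
    have hbb : ∀ x m' f, MDat inc R W V s t (k + 1) (y 0) (y (k + 1)) (y k) x m m' f → Com W x (y k) →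
        ∀ b : H, IsBB U b → ∃ w ∈ W x, ρ₂ w = b := by
      intro x m' f hMx hc b hb
      have hxR : W x ≤ centralizer (R (y (k + 1)) : Set G) := fun a ha => mem_centralizer_iff.2 fun c hcc =>
        (hc a ha c (hRk hcc)).symm
      have hcR : ∀ a ∈ W x, ∀ c ∈ R (y (k + 1)), a * c = c * a := fun a ha c hcc => hc a ha c (hRk hcc)
      have h1 : t ≤ (Cfsg.Agent.Omega.NOThree.LemmaM.cm (W x) (W (y (k + 1))) (R (y (k + 1))) hcR).relIndex (W x) := hMx.t_le hc _ fun a => Cfsg.Agent.Omega.NOThree.LemmaM.mem_cm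
      rw [← card_im F₂.re hxR fun a => Cfsg.Agent.Omega.NOThree.LemmaM.mem_cm] at h1
      have hle : im F₂.re (W x) hxR ≤ bb H U := by
        rintro _ ⟨w, hw, rfl⟩
        refine ⟨fun u hu => ?_, fun m' => ?_⟩
        · obtain ⟨u', hu', huy, rfl⟩ := (F₂.mU u).1 hu
          rw [← comm_mem_iff F₂.re D (hxR hw) hu', comm_eq_one.2 (hc w hw u' (huy _ hmk))]
          exact one_mem _
        · obtain ⟨u', hu', rfl⟩ := F₂.re.psurj m'
          rw [← π_comm F₂.re D (hxR hw) hu']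
          have g1 : w * u' * w⁻¹ * u'⁻¹ ∈ W (y (k + 1)) := mul_mem (Four.norm_p D (hxR hw) hu') (inv_mem hu')
          have g2 : w * u' * w⁻¹ * u'⁻¹ ∈ W (y k) := (hMx.beta hc hNO).2.2 w hw u' hu'
          exact (F₂.mU _).2 ⟨_, g1, fun z hz => D.inf_le hmn hmk hz hkn.symm ⟨g1, g2⟩, rfl⟩
      have := F.flag.finH
      have := F.flag.finM
      have h2 : Nat.card (bb H U) ≤ (zm M (bb H U)).index := by
        refine F.no _ ?_ ?_ ?_ ?_
        · exact bb_le_o2 F.flag.sq F.flag.faith F.flag.le hinv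
        · exact fun a ha b hb => bb_comm F.flag.sq F.flag.faith ha hb
        · exact fun a ha => bb_sq F.flag.sq F.flag.faith ha
        · exact fun a ha b hb m => bb_quad ha hb m
      have h3 : (zm M (bb H U)).index ≤ U.index := by
        have h3 : U ≤ zm M (bb H U) := fun m hm b hb => hb.1 m hm
        exact Nat.le_of_dvd (Nat.pos_of_ne_zero Subgroup.index_ne_zero_of_finite) (Subgroup.index_dvd_of_le h3)
      rw [F.index_U D] at h3
      have h4 : im F₂.re (W x) hxR = bb H U := Subgroup.eq_of_le_of_card_ge hle (h2.trans (h3.trans h1))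
      have h5 : b ∈ im F₂.re (W x) hxR := by rw [h4]; exact hb
      exact h5
    -- the image of `W_p` in `H_q` lies in `bb U`
    have hA'B : ∀ b ∈ im F₂.re (W (y 0)) hpR, IsBB U b := by
      rintro _ ⟨w, hw, rfl⟩
      refine ⟨fun u hu => ?_, fun m' => ?_⟩
      · obtain ⟨u', hu', huy, rfl⟩ := (F₂.mU u).1 hu
        rw [← comm_mem_iff F₂.re D (hpR hw) hu', comm_eq_one.2 (hEx'.cen (y k) hmk hkn w hw u' hu' (huy _ hmk))]
        exact one_mem _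
      · obtain ⟨u', hu', rfl⟩ := F₂.re.psurj m'
        rw [← π_comm F₂.re D (hpR hw) hu']
        have g1 : w * u' * w⁻¹ * u'⁻¹ ∈ W (y (k + 1)) := mul_mem (Four.norm_p D (hpR hw) hu') (inv_mem hu')
        have g2 : w * u' * w⁻¹ * u'⁻¹ ∈ W (y k) := plus hM₀ hc₀ hNO w hw u' hu'
        exact (F₂.mU _).2 ⟨_, g1, fun z hz => D.inf_le hmn hmk hz hkn.symm ⟨g1, g2⟩, rfl⟩
    -- `Z' = C_M(A')`
    have hZ : ∀ m', m' ∈ zm M (im F₂.re (W (y 0)) hpR) ↔ ∃ b : H, IsBB U b ∧ b ≠ 1 ∧ b • m' = m' := by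
      intro m'
      constructor
      · intro hm'
        obtain ⟨b, hb, hb1⟩ : ∃ b ∈ im F₂.re (W (y 0)) hpR, b ≠ 1 := by
          by_contra hcon
          push Not at hcon
          exact hA'.ne (eq_bot_iff.2 fun x hx => mem_bot.2 (hcon x hx))
        exact ⟨b, hA'B b hb, hb1, hm' b hb⟩
      · rintro ⟨b, hb, hb1, hbm⟩
        obtain ⟨f, hf, rfl⟩ := F₂.re.psurj m'
        by_cases hf1 : ρ₁ f = 1
        · have h1 : ∀ u ∈ W (y 0), f * u = u * f := fun u hu =>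
            hE.good f hf ((F₁.re.ker f (hqR hf)).1 hf1) u hu
          rintro _ ⟨w, hw, rfl⟩
          rw [← comm_mem_iff F₂.re D (hpR hw) hf, comm_eq_one.2 (h1 w hw).symm]
          exact one_mem _
        · exfalso
          obtain ⟨x, m', hMx, hc⟩ := hmov f hf hf1
          obtain ⟨w, hw, rfl⟩ := hbb x m' f hMx hc b hb
          have hwR : w ∈ centralizer (R (y (k + 1)) : Set G) := mem_centralizer_iff.2 fun c hcc =>
            (hc w hw c (hRk hcc)).symm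
          apply hb1
          rw [F₂.re.ker w hwR]
          exact fine hMx hc hNO hw ((comm_mem_iff F₂.re D hwR hf).2 hbm)
    -- the index
    have hi : (zm M (im F₂.re (W (y 0)) hpR)).index = Nat.card (im F₁.re (W (y (k + 1))) hqR) := by
      have hqR' : ∀ a ∈ W (y (k + 1)), ∀ c ∈ R (y (k + 1)), a * c = c * a := fun a ha c hcc =>
        D.comm _ a ha c (D.R_le_W _ hcc)
      have hK : ∀ u, u ∈ W (y (k + 1)) ⊓ centralizer (W (y 0) : Set G) ↔ u ∈ W (y (k + 1)) ∧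
          ∀ a ∈ W (y 0), a * u * a⁻¹ * u⁻¹ ∈ R (y (k + 1)) := by
        intro u
        constructor
        · rintro ⟨h1, h2⟩
          refine ⟨h1, fun a ha => ?_⟩
          rw [comm_eq_one.2 (mem_centralizer_iff.1 h2 a ha)]
          exact one_mem _
        · rintro ⟨h1, h2⟩
          exact ⟨h1, mem_centralizer_iff.2 fun a ha => hE.cen' u h1 h2 a ha⟩
      have hK' : ∀ u, u ∈ W (y (k + 1)) ⊓ centralizer (W (y 0) : Set G) ↔ u ∈ W (y (k + 1)) ∧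
          ∀ a ∈ W (y 0), u * a * u⁻¹ * a⁻¹ ∈ R (y 0) := by
        intro u
        constructor
        · rintro ⟨h1, h2⟩
          refine ⟨h1, fun a ha => ?_⟩
          rw [comm_eq_one.2 (mem_centralizer_iff.1 h2 a ha).symm]
          exact one_mem _
        · rintro ⟨h1, h2⟩
          exact ⟨h1, mem_centralizer_iff.2 fun a ha => (hE.good u h1 h2 a ha).symm⟩
      rw [index_zm F₂.re D hpR hK, card_im F₁.re hqR hK']
    have key := em_inf_lam F.flag hinv F.no hAB hA.card hZ hi hA.ne hJ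
    obtain ⟨u', hu', hu1⟩ : ∃ u' ∈ em M (im F₁.re (W (y (k + 1))) hqR) ⊓ lam, u' ≠ 1 := by
      by_contra hcon
      push Not at hcon
      exact key (eq_bot_iff.2 fun x hx => mem_bot.2 (hcon x hx))
    obtain ⟨u, hu, rfl⟩ : ∃ u ∈ rr W k y, π₁ u = u' := by
      have hrrW : rr W k y ≤ W (y 0) := rr_le_zero D hy.toPth
      refine closure_induction (p := fun x _ => ∃ u ∈ rr W k y, π₁ u = x) ?_ ?_ ?_ ?_ hu'.1
      · rintro _ ⟨_, ⟨f, hf, rfl⟩, m', -, rfl⟩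
        obtain ⟨w, hw, rfl⟩ := F₁.re.psurj m'
        refine ⟨f * w * f⁻¹ * w⁻¹, ?_, π_comm F₁.re D (hqR hf) hw⟩
        have e : f * w * f⁻¹ * w⁻¹ = (w * f * w⁻¹ * f⁻¹)⁻¹ := by group
        rw [e]
        exact inv_mem (comm_mem_rr hw hf)
      · exact ⟨1, one_mem _, π_one F₁.re⟩
      · rintro _ _ _ _ ⟨a, ha, rfl⟩ ⟨b, hb, rfl⟩
        exact ⟨a * b, mul_mem ha hb, F₁.re.pmul a (hrrW ha) b (hrrW hb)⟩
      · rintro _ _ ⟨a, ha, rfl⟩
        exact ⟨a⁻¹, inv_mem ha, π_inv F₁.re (hrrW ha)⟩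
    refine ⟨u, hu, ?_, ?_⟩
    · rintro rfl
      exact hu1 (π_one F₁.re)
    · obtain ⟨v, hv, he⟩ := (F₁.mlam _).1 hu'.2
      have h1 := mem_mul_R F₁.re (rr_le_zero D hy.toPth hu) (D.V_le _ l hl0 hv) he.symm
      have h2 := mul_mem (D.R_le _ l hl0 h1) hv
      rwa [inv_mul_cancel_right] at h2

end term

end Cfsg.Agent.Omega.NO3S.FarQ.Free

end

section


/-!
# FarQ, piece (B): BAD movers (helper937 #18718, section 2; LEAN PLAN #19123)

`Geom inc R W V s t`, any `s`; `(p, l)` a flag, `y ≠ p` a point of `l`, `q` a point, `W_q` centralises `R_p` and `W_y`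
and `[W_p, W_q] ≤ W_y`.

* `kp R W p = K_p`; `hm` : the homomorphism `k ↦ [k, v]`, `K_p → R_p` (`v ∈ W_p`);
* `KF inc R W V p l` : `[K_p, v] = R_p` for `v ∈ V_l \ R_p`, `[K_p ∩ C(V_l), u] = R_p` for `u ∈ I_l \ V_l` ((F1), (F2'));
* `Bp` : the situation; a mover `(x, f)`: `f ∈ W_q`, `h ∈ C_G(R_p)`, `h ^ k = 1`, `k` odd, `f h f⁻¹ = h⁻¹`, `x = h y`,
  `f x ≠ x`; it is BAD: not `W_x ∩ W_{f x} ≤ W_p`;
* `Bp.comm_mem` : `[w, v] ∈ V_l` for `w ∈ W_q`, `v ∈ R_x`;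
* `Bp.not_mem_R` : `[f, v] ∉ R_p` for `1 ≠ v ∈ R_x`.
-/

set_option autoImplicit false
set_option linter.unusedSectionVars false

namespace Cfsg.Agent.Omega.NO3S.FarQ.Bad

open Subgroup Cfsg Cfsg.Agent.ZN Cfsg.Agent.MinSimple.VModule Cfsg.Agent.Omega.NOThree.Pts

variable {G X L : Type*} [Group G] [MulAction G X] [MulAction G L]
variable {inc : X → L → Prop} {R W : X → Subgroup G} {V : L → Subgroup G} {s t n : ℕ}

/-! ### The count -/

/-- `K_p` modulo the stabiliser of `x`, `x^f` has order `≤ s²`. -/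
theorem count {N C : Type*} [Group N] [Group C] [Finite C] [Nontrivial C] (α α' β γ : N →* C) (σ : N → N)
    (h1 : ∀ k, α (σ k) = α' k) (h3 : ∀ k, β (σ k) = β k) (h4 : ∀ k, γ (σ k) = γ k)
    (hK : ∀ k, α k = 1 → α' k = 1 → β k = 1 ∧ γ k = 1) (hs : ∀ a b, ∃ k, β k = a ∧ γ k = b) : False := by
  set δ : N →* C × C := α.prod α' with hδ
  set ε : N →* C × C := β.prod γ with hε
  have hker : δ.ker ≤ ε.ker := by
    intro k hk
    rw [MonoidHom.mem_ker] at hk ⊢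
    have e1 : α k = 1 := congrArg Prod.fst hk
    have e2 : α' k = 1 := congrArg Prod.snd hk
    obtain ⟨e3, e4⟩ := hK k e1 e2
    exact Prod.ext e3 e4
  have hεs : ε.range = ⊤ := by
    rw [eq_top_iff]
    rintro ⟨a, b⟩ -
    obtain ⟨k, hk1, hk2⟩ := hs a b
    exact ⟨k, Prod.ext hk1 hk2⟩
  have i1 : ε.ker.index = Nat.card (C × C) := by
    rw [index_ker, hεs]
    exact Nat.card_congr topEquiv.toEquiv
  have i2 : δ.ker.index ≤ Nat.card (C × C) := by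
    rw [index_ker]
    exact Subgroup.card_le_card_group _
  have i3 := relIndex_mul_index hker
  have hpos : 0 < ε.ker.index := by rw [i1]; exact Nat.card_pos
  have hδpos : δ.ker.index ≠ 0 := by
    rw [index_ker]
    exact Nat.card_pos.ne'
  have i4 : δ.ker.relIndex ε.ker = 1 := by
    have h5 : δ.ker.relIndex ε.ker * ε.ker.index ≤ 1 * ε.ker.index := by rw [i3, one_mul, i1]; exact i2
    have h6 := Nat.le_of_mul_le_mul_right h5 hpos
    have h7 : δ.ker.relIndex ε.ker ≠ 0 := by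
      intro h0
      rw [h0, zero_mul] at i3
      exact hδpos i3.symm
    omega
  have hle : ε.ker ≤ δ.ker := relIndex_eq_one.1 i4
  have hδs : δ.range = ⊤ := by
    have h5 : Nat.card δ.range = Nat.card (C × C) := by
      rw [← index_ker, le_antisymm hker hle, i1]
    exact Subgroup.eq_top_of_card_eq _ h5
  obtain ⟨r, hr⟩ := exists_ne (1 : C)
  have h5 : ((r, 1) : C × C) ∈ δ.range := by rw [hδs]; exact mem_top _
  obtain ⟨k, hk⟩ := h5
  have e1 : α k = r := congrArg Prod.fst hk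
  have e2 : α' k = 1 := congrArg Prod.snd hk
  have h6 : k⁻¹ * σ k ∈ ε.ker := by
    rw [MonoidHom.mem_ker]
    refine Prod.ext ?_ ?_
    · show β (k⁻¹ * σ k) = 1
      rw [map_mul, map_inv, h3, inv_mul_cancel]
    · show γ (k⁻¹ * σ k) = 1
      rw [map_mul, map_inv, h4, inv_mul_cancel]
  have h7 : α (k⁻¹ * σ k) = 1 := congrArg Prod.fst (MonoidHom.mem_ker.1 (hle h6))
  rw [map_mul, map_inv, h1, e1, e2, mul_one, inv_eq_one] at h7
  exact hr h7

/-! ### `K_p` -/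

/-- `K_p` -/
def kp (R W : X → Subgroup G) (p : X) : Subgroup G where
  carrier := {k | k ∈ centralizer (R p : Set G) ∧ ∀ w ∈ W p, k * w * k⁻¹ * w⁻¹ ∈ R p}
  one_mem' := ⟨one_mem _, fun w _ => by
    have e : (1 : G) * w * 1⁻¹ * w⁻¹ = 1 := by group
    rw [e]; exact one_mem _⟩
  mul_mem' := by
    rintro a b ⟨ha, ha'⟩ ⟨hb, hb'⟩
    refine ⟨mul_mem ha hb, fun w hw => ?_⟩
    have h1 := mem_centralizer_iff.1 ha _ (hb' w hw)
    have e : a * b * w * (a * b)⁻¹ * w⁻¹ = (a * (b * w * b⁻¹ * w⁻¹)) * a⁻¹ * (a * w * a⁻¹ * w⁻¹) := by group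
    rw [e, ← h1, mul_inv_cancel_right]
    exact mul_mem (hb' w hw) (ha' w hw)
  inv_mem' := by
    rintro a ⟨ha, ha'⟩
    refine ⟨inv_mem ha, fun w hw => ?_⟩
    have h1 := mem_centralizer_iff.1 ha _ (inv_mem (ha' w hw))
    have e : a⁻¹ * w * a⁻¹⁻¹ * w⁻¹ = a⁻¹ * ((a * w * a⁻¹ * w⁻¹)⁻¹ * a) := by group
    rw [e, h1, inv_mul_cancel_left]
    exact inv_mem (ha' w hw)

theorem mem_kp {p : X} {k : G} : k ∈ kp R W p ↔
    k ∈ centralizer (R p : Set G) ∧ ∀ w ∈ W p, k * w * k⁻¹ * w⁻¹ ∈ R p := Iff.rfl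

/-- `[k k', v] = [k, v] [k', v]` -/
theorem comm_mul (D : Geom inc R W V s t) {p : X} {k k' v : G} (hk : k ∈ kp R W p) (hk' : k' ∈ kp R W p)
    (hv : v ∈ W p) : k * k' * v * (k * k')⁻¹ * v⁻¹ = (k * v * k⁻¹ * v⁻¹) * (k' * v * k'⁻¹ * v⁻¹) := by
  have h1 := mem_centralizer_iff.1 hk.1 _ (hk'.2 v hv)
  have h2 := D.comm p _ (D.R_le_W p (hk'.2 v hv)) _ (D.R_le_W p (hk.2 v hv))
  have e : k * k' * v * (k * k')⁻¹ * v⁻¹ = (k * (k' * v * k'⁻¹ * v⁻¹)) * k⁻¹ * (k * v * k⁻¹ * v⁻¹) := by group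
  rw [e, ← h1, mul_inv_cancel_right, h2]

/-- The homomorphism `k ↦ [k, v]` -/
def hm (D : Geom inc R W V s t) {p : X} {v : G} (hv : v ∈ W p) : kp R W p →* R p where
  toFun k := ⟨k * v * (k : G)⁻¹ * v⁻¹, k.2.2 v hv⟩
  map_one' := Subtype.ext (by
    show (1 : G) * v * (1 : G)⁻¹ * v⁻¹ = 1
    group)
  map_mul' a b := Subtype.ext (comm_mul D a.2 b.2 hv)

theorem hm_apply (D : Geom inc R W V s t) {p : X} {v : G} (hv : v ∈ W p) (k : kp R W p) :
    (hm D hv k : G) = k * v * (k : G)⁻¹ * v⁻¹ := rfl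

theorem hm_eq_one (D : Geom inc R W V s t) {p : X} {v : G} (hv : v ∈ W p) {k : kp R W p} :
    hm D hv k = 1 ↔ (k : G) * v = v * k := by
  rw [← Subtype.coe_inj, hm_apply, OneMemClass.coe_one, mul_inv_eq_one, mul_inv_eq_iff_eq_mul]

theorem fix_p' (D : Geom inc R W V s t) {p : X} {g : G} (hg : g ∈ centralizer (R p : Set G)) : g • p = p :=
  D.fix_of_centralizes fun a ha => (mem_centralizer_iff.1 hg a ha).symm

/-- `C_G(R_p)` normalises `K_p`. -/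
theorem conj_kp (D : Geom inc R W V s t) {p : X} {g k : G} (hg : g ∈ centralizer (R p : Set G))
    (hk : k ∈ kp R W p) : g * k * g⁻¹ ∈ kp R W p := by
  refine ⟨mul_mem (mul_mem hg hk.1) (inv_mem hg), fun w hw => ?_⟩
  have hgp : g⁻¹ • p = p := fix_p' D (inv_mem hg)
  have h1 := D.norm_W hgp hw
  rw [inv_inv] at h1
  have h2 := hk.2 _ h1
  have h3 := mem_centralizer_iff.1 hg _ h2
  have e : g * k * g⁻¹ * w * (g * k * g⁻¹)⁻¹ * w⁻¹ = g * (k * (g⁻¹ * w * g) * k⁻¹ * (g⁻¹ * w * g)⁻¹) * g⁻¹ := by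
    group
  rw [e, ← h3, mul_inv_cancel_right]
  exact h2

/-- `[g k g⁻¹, g v g⁻¹] = [k, v]` for `g ∈ C_G(R_p)` -/
theorem comm_conj {p : X} {g k v : G} (hg : g ∈ centralizer (R p : Set G))
    (hk : k ∈ kp R W p) (hv : v ∈ W p) :
    g * k * g⁻¹ * (g * v * g⁻¹) * (g * k * g⁻¹)⁻¹ * (g * v * g⁻¹)⁻¹ = k * v * k⁻¹ * v⁻¹ := by
  have h3 := mem_centralizer_iff.1 hg _ (hk.2 v hv)
  have e : g * k * g⁻¹ * (g * v * g⁻¹) * (g * k * g⁻¹)⁻¹ * (g * v * g⁻¹)⁻¹ = g * (k * v * k⁻¹ * v⁻¹) * g⁻¹ := by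
    group
  rw [e, ← h3, mul_inv_cancel_right]

/-- `x ∼ p` on `m`: if `g ∈ R_p`-translates the elements of `R_x`, then `g x` is on `m`. -/
theorem inc_of_comm (D : Geom inc R W V s t) {p x : X} {m : L} (hx : inc x m) (hp : inc p m) {g a : G}
    (ha : a ∈ R x) (ha1 : a ≠ 1) (hg : g * a * g⁻¹ * a⁻¹ ∈ R p) : inc (g • x) m := by
  have h1 : g * a * g⁻¹ ∈ V m := by
    have := mul_mem (D.R_le p m hp hg) (D.R_le x m hx ha)
    rwa [inv_mul_cancel_right] at this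
  obtain ⟨z, hz, haz⟩ := D.cover m _ h1
  have h2 := D.ti _ _ _ (D.R_smul g x a ha) haz fun h0 => ha1 (conj_eq_one_iff.1 h0)
  rwa [h2]

/-- an element of `K_p` fixing `x ≠ p` centralises `R_x` (`x ∼ p`) -/
theorem comm_of_fix (D : Geom inc R W V s t) {p x : X} {m : L} (hx : inc x m) (hp : inc p m) (hne : x ≠ p) {k : G}
    (hk : k ∈ kp R W p) (hkx : k • x = x) {a : G} (ha : a ∈ R x) : k * a = a * k := by
  have haW : a ∈ W p := D.V_le p m hp (D.R_le x m hx ha)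
  have h1 : k * a * k⁻¹ * a⁻¹ ∈ R x := mul_mem (D.norm_R hkx ha) (inv_mem ha)
  by_contra hcon
  refine hne (D.ti _ _ _ h1 (hk.2 a haW) fun h0 => hcon ?_)
  rwa [mul_inv_eq_one, mul_inv_eq_iff_eq_mul] at h0

/-- **(F1), (F2') at the flag `(p, l)`** -/
structure KF (inc : X → L → Prop) (R W : X → Subgroup G) (V : L → Subgroup G) (p : X) (l : L) : Prop where
  f1 : ∀ v ∈ V l, v ∉ R p → ∀ r ∈ R p, ∃ k ∈ centralizer (R p : Set G),
    (∀ w ∈ W p, k * w * k⁻¹ * w⁻¹ ∈ R p) ∧ k * v * k⁻¹ * v⁻¹ = r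
  f2 : ∀ u ∈ W p, (∀ y, inc y l → u ∈ W y) → u ∉ V l → ∀ r ∈ R p, ∃ k ∈ centralizer (R p : Set G),
    (∀ w ∈ W p, k * w * k⁻¹ * w⁻¹ ∈ R p) ∧ (∀ v ∈ V l, k * v = v * k) ∧ k * u * k⁻¹ * u⁻¹ = r

/-- (F1) from the transitivity of `K_p` on the points `≠ p` of `l`. -/
theorem f1_of_tr (D : Geom inc R W V s t) {p : X} {l : L} (hp : inc p l)
    (tr : ∀ x y, inc x l → x ≠ p → inc y l → y ≠ p →
      ∃ k ∈ centralizer (R p : Set G), (∀ w ∈ W p, k * w * k⁻¹ * w⁻¹ ∈ R p) ∧ k • y = x)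
    {v : G} (hv : v ∈ V l) (hvp : v ∉ R p) {r : G} (hr : r ∈ R p) :
    ∃ k ∈ centralizer (R p : Set G), (∀ w ∈ W p, k * w * k⁻¹ * w⁻¹ ∈ R p) ∧ k * v * k⁻¹ * v⁻¹ = r := by
  obtain ⟨y, hy, hvy⟩ := D.cover l v hv
  have hyp : y ≠ p := by rintro rfl; exact hvp hvy
  have hrV := D.R_le p l hp hr
  obtain ⟨x, hx, hvx⟩ := D.cover l _ (mul_mem hrV hv)
  have hrv : r * v ∉ R p := fun h => hvp ((mul_mem_cancel_left hr).1 h)
  have hxp : x ≠ p := by rintro rfl; exact hrv hvx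
  obtain ⟨k, hk, hk', hkx⟩ := tr x y hx hxp hy hyp
  refine ⟨k, hk, hk', ?_⟩
  have hvW : v ∈ W p := D.V_le p l hp hv
  have h1 : k * v * k⁻¹ ∈ R x := by
    have := D.R_smul k y v hvy
    rwa [hkx] at this
  have h2 : k * v * k⁻¹ * (r * v)⁻¹ ∈ R x := mul_mem h1 (inv_mem hvx)
  have h3 : k * v * k⁻¹ * (r * v)⁻¹ = (k * v * k⁻¹ * v⁻¹) * r⁻¹ := by group
  have h4 : (k * v * k⁻¹ * v⁻¹) * r⁻¹ ∈ R p := mul_mem (hk' v hvW) (inv_mem hr)
  rw [h3] at h2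
  by_contra hcon
  exact hxp (D.ti _ _ _ h2 h4 fun h0 => hcon (mul_inv_eq_one.1 h0))

/-! ### Bad movers -/

/-- **A bad mover.** -/
structure Bp (inc : X → L → Prop) (R W : X → Subgroup G) (V : L → Subgroup G) (p y q : X) (l : L) (f h : G) : Prop where
  kf : KF inc R W V p l
  pl : inc p l
  yl : inc y l
  ne : y ≠ p
  /-- `[W_q, R_p] = 1` -/
  cen : ∀ w ∈ W q, w ∈ centralizer (R p : Set G)
  /-- `[W_q, W_y] = 1` -/
  com : ∀ w ∈ W q, ∀ v ∈ W y, w * v = v * w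
  /-- `[W_q, W_p] ≤ W_y` -/
  le : ∀ w ∈ W q, ∀ v ∈ W p, w * v * w⁻¹ * v⁻¹ ∈ W y
  mem : f ∈ W q
  hR : h ∈ centralizer (R p : Set G)
  odd : ∃ k, Odd k ∧ h ^ k = 1
  inv : f * h * f⁻¹ = h⁻¹
  mv : f • h • y ≠ h • y
  bad : ¬ W (h • y) ⊓ W (f • h • y) ≤ W p

namespace Bp

variable (D : Geom inc R W V s t) {p y q : X} {l : L} {f h : G} (B : Bp inc R W V p y q l f h)
include D B

theorem hp : h • p = p := fix_p' D B.hR

theorem wp {w : G} (hw : w ∈ W q) : w • p = p := fix_p' D (B.cen w hw)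

theorem wy {w : G} (hw : w ∈ W q) : w • y = y := D.fix_of_centralizes fun a ha => B.com w hw a (D.R_le_W y ha)

/-- the line `h l` through `p` and `x = h y` -/
theorem xl : inc (h • y) (h • l) := D.inc_smul h _ _ B.yl

theorem pl' : inc p (h • l) := by
  have := D.inc_smul h _ _ B.pl
  rwa [B.hp D] at this

theorem fx : f • h • y = h⁻¹ • y := by
  have e : f * h = h⁻¹ * f := by rw [← B.inv]; group
  rw [smul_smul, e, mul_smul, B.wy D B.mem]

/-- `h`, `f` centralise `W_x ∩ W_{f x}` -/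
theorem comm_h {u : G} (hu : u ∈ W (h • y)) (hu' : u ∈ W (f • h • y)) : h * u = u * h := by
  rw [B.fx D] at hu'
  have e1 : f * h = h⁻¹ * f := by rw [← B.inv]; group
  have e2 : f * h⁻¹ = h * f := by
    have : f * h⁻¹ = (f * h * f⁻¹)⁻¹ * f := by group
    rw [this, B.inv, inv_inv]
  -- `h * h * f`
  have h1 : (h * h * f) * u = u * (h * h * f) := by
    have h2 := B.com f B.mem _ ((D.W_smul_iff h).1 hu)
    have h3 : h * h * f = h * f * h⁻¹ := by rw [mul_assoc h f h⁻¹, e2, ← mul_assoc]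
    rw [h3]
    calc h * f * h⁻¹ * u = h * (f * (h⁻¹ * u * h)) * h⁻¹ := by group
      _ = h * ((h⁻¹ * u * h) * f) * h⁻¹ := by rw [h2]
      _ = u * (h * f * h⁻¹) := by group
  have h1' : (h⁻¹ * h⁻¹ * f) * u = u * (h⁻¹ * h⁻¹ * f) := by
    have h2 := B.com f B.mem _ ((D.W_smul_iff h⁻¹).1 hu')
    rw [inv_inv] at h2
    have h3 : h⁻¹ * h⁻¹ * f = h⁻¹ * f * h := by rw [mul_assoc h⁻¹ f h, e1, ← mul_assoc]
    rw [h3]
    calc h⁻¹ * f * h * u = h⁻¹ * (f * (h * u * h⁻¹)) * h := by group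
      _ = h⁻¹ * ((h * u * h⁻¹) * f) * h := by rw [h2]
      _ = u * (h⁻¹ * f * h) := by group
  have m1 : h * h * f ∈ centralizer ({u} : Set G) := mem_centralizer_singleton_iff.2 h1
  have m2 : h⁻¹ * h⁻¹ * f ∈ centralizer ({u} : Set G) := mem_centralizer_singleton_iff.2 h1'
  have m3 : h ^ 4 ∈ centralizer ({u} : Set G) := by
    have h5 := mul_mem m1 (inv_mem m2)
    have e : h * h * f * (h⁻¹ * h⁻¹ * f)⁻¹ = h ^ 4 := by group
    rwa [e] at h5
  obtain ⟨k, ⟨j, rfl⟩, hk⟩ := B.odd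
  have m4 : h ∈ centralizer ({u} : Set G) := by
    have h6 : h ^ ((2 * j + 1) * (2 * j + 1)) = 1 := by rw [pow_mul, hk, one_pow]
    have h7 : (2 * j + 1) * (2 * j + 1) = 4 * (j * j + j) + 1 := by ring
    rw [h7, pow_succ, pow_mul] at h6
    rw [eq_inv_of_mul_eq_one_right h6]
    exact inv_mem (pow_mem m3 _)
  exact mem_centralizer_singleton_iff.1 m4

theorem mem_y {u : G} (hu : u ∈ W (h • y)) (hu' : u ∈ W (f • h • y)) : u ∈ W y := by
  have h1 := (D.W_smul_iff h).1 hu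
  have e : h⁻¹ * u * h = u := by rw [mul_assoc, ← B.comm_h D hu hu']; group
  rwa [e] at h1

/-- `u ∈ W_{w x}` for `w ∈ W_q` -/
theorem mem_wx {u w : G} (hw : w ∈ W q) (hu : u ∈ W (h • y)) (hu' : u ∈ W (f • h • y)) : u ∈ W (w • h • y) := by
  rw [D.W_smul_iff w]
  have h1 := B.com w hw u (B.mem_y D hu hu')
  have e : w⁻¹ * u * w = u := by rw [mul_assoc, ← h1]; group
  rwa [e]

/-- `k ∈ K_p` fixing `x` and `f x` fixes every `z ∼ p` with `W_x ∩ W_{f x} ≤ W_z` -/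
theorem fix_of {k : G} (hk : k ∈ kp R W p) (h1 : k • h • y = h • y) (h2 : k • f • h • y = f • h • y) {z : X} {m : L}
    (hz : inc z m) (hp : inc p m) (hY : ∀ u ∈ W (h • y), u ∈ W (f • h • y) → u ∈ W z) : k • z = z := by
  by_contra hne
  apply B.bad
  rintro u ⟨hu, hu'⟩
  obtain ⟨a, ha, ha1⟩ := D.exists_ne z
  have h3 := inc_of_comm D hz hp ha ha1 (hk.2 a (D.V_le p m hp (D.R_le z m hz ha)))
  refine D.inf_le hz h3 hp (fun e => hne e.symm) ⟨hY u hu hu', ?_⟩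
  show u ∈ W (k • z)
  rw [D.W_smul_iff]
  refine hY _ ?_ ?_
  · rw [← D.W_smul_iff, h1]; exact hu
  · rw [← D.W_smul_iff, h2]; exact hu'

theorem ne_p {z : X} (hY : ∀ u ∈ W (h • y), u ∈ W (f • h • y) → u ∈ W z) : z ≠ p := by
  rintro rfl
  exact B.bad fun u hu => hY u hu.1 hu.2

/-- such a `k` centralises `R_z` -/
theorem comm_of {k : G} (hk : k ∈ kp R W p) (h1 : k • h • y = h • y) (h2 : k • f • h • y = f • h • y) {z : X} {m : L}
    (hz : inc z m) (hp : inc p m) (hY : ∀ u ∈ W (h • y), u ∈ W (f • h • y) → u ∈ W z) {a : G} (ha : a ∈ R z) :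
    k * a = a * k :=
  comm_of_fix D hz hp (B.ne_p D hY) hk (B.fix_of D hk h1 h2 hz hp hY) ha

/-- **(B)** `[w, v] ∈ V_l` for `w ∈ W_q`, `v ∈ R_x` -/
theorem comm_mem {w v : G} (hw : w ∈ W q) (hv : v ∈ R (h • y)) : w * v * w⁻¹ * v⁻¹ ∈ V l := by
  by_contra hc
  set c := w * v * w⁻¹ * v⁻¹ with hcdef
  have hfR := B.cen f B.mem
  have hff : f * f = 1 := D.sq q f B.mem
  have hfi : f⁻¹ = f := inv_eq_of_mul_eq_one_left hff
  have hRW : R (h • y) ≤ W p := (D.R_le _ _ (B.xl D)).trans (D.V_le _ _ (B.pl' D))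
  have hvW := hRW hv
  have hwvW : w * v * w⁻¹ ∈ W p := D.norm_W (B.wp D hw) hvW
  have hcW : c ∈ W p := mul_mem hwvW (inv_mem hvW)
  have hcy : c ∈ W y := B.le w hw v hvW
  have hcI : ∀ z, inc z l → c ∈ W z := fun z hz => D.inf_le B.pl B.yl hz B.ne.symm ⟨hcW, hcy⟩
  obtain ⟨v0, hv0, hv01⟩ := D.exists_ne (h • y)
  have hv0W := hRW hv0
  have hfv0R : f * v0 * f⁻¹ ∈ R (f • h • y) := D.R_smul f _ _ hv0
  have hfv0W : f * v0 * f⁻¹ ∈ W p := D.norm_W (B.wp D B.mem) hv0W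
  obtain ⟨a, ha, ha1⟩ := D.exists_ne y
  have haV := D.R_le y l B.yl ha
  have haW : a ∈ W p := D.V_le p l B.pl haV
  have hap : a ∉ R p := fun h0 => B.ne (D.ti _ _ _ ha h0 ha1)
  have hfx : inc (f • h • y) (f • h • l) := D.inc_smul f _ _ (B.xl D)
  have hfp : inc p (f • h • l) := by
    have := D.inc_smul f _ _ (B.pl' D)
    rwa [B.wp D B.mem] at this
  have hwx : inc (w • h • y) (w • h • l) := D.inc_smul w _ _ (B.xl D)
  have hwp : inc p (w • h • l) := by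
    have := D.inc_smul w _ _ (B.pl' D)
    rwa [B.wp D hw] at this
  have : Finite (R p) := Nat.finite_of_card_ne_zero (by rw [D.card]; have := D.two_le; omega)
  have : Nontrivial (R p) := by
    obtain ⟨b, hb, hb1⟩ := D.exists_ne p
    exact ⟨⟨⟨b, hb⟩, 1, fun e => hb1 (congrArg Subtype.val e)⟩⟩
  have hcv' : ∀ (k : kp R W p) (v' : G) (hv' : v' ∈ W p), f * v' = v' * f →
      hm D hv' ⟨f * k * f⁻¹, conj_kp D hfR k.2⟩ = hm D hv' k := by
    intro k v' hv' e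
    refine Subtype.ext ?_
    have h3 := comm_conj hfR k.2 hv'
    have e' : f * v' * f⁻¹ = v' := by rw [e, mul_inv_cancel_right]
    rw [e'] at h3
    exact h3
  refine count (hm D hv0W) (hm D hfv0W) (hm D haW) (hm D hcW) (fun k => ⟨f * k * f⁻¹, conj_kp D hfR k.2⟩)
    ?_ ?_ ?_ ?_ ?_
  · intro k
    refine Subtype.ext ?_
    have h3 := comm_conj hfR k.2 hfv0W
    have e' : f * (f * v0 * f⁻¹) * f⁻¹ = v0 := by
      rw [hfi]
      calc f * (f * v0 * f) * f = (f * f) * v0 * (f * f) := by group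
        _ = v0 := by rw [hff, one_mul, mul_one]
    rw [e'] at h3
    exact h3
  · intro k
    exact hcv' k a haW (B.com f B.mem a (D.R_le_W y ha))
  · intro k
    exact hcv' k c hcW (B.com f B.mem c hcy)
  · rintro ⟨k, hk⟩ h1 h2
    rw [hm_eq_one] at h1 h2
    have k1 : k • h • y = h • y := D.fix hv0 hv01 h1
    have k2 : k • f • h • y = f • h • y := D.fix hfv0R (fun h0 => hv01 (conj_eq_one_iff.1 h0)) h2
    rw [hm_eq_one, hm_eq_one]
    refine ⟨B.comm_of D hk k1 k2 B.yl B.pl (fun u hu hu' => B.mem_y D hu hu') ha, ?_⟩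
    have k3 : k * v = v * k := comm_of_fix D (B.xl D) (B.pl' D)
      (B.ne_p D fun u hu _ => hu) hk k1 hv
    have k4 : k * (w * v * w⁻¹) = (w * v * w⁻¹) * k :=
      B.comm_of D hk k1 k2 hwx hwp (fun u hu hu' => B.mem_wx D hw hu hu') (D.R_smul w _ _ hv)
    have k5 : k * v⁻¹ = v⁻¹ * k := by
      rw [D.inv_eq hvW]; exact k3
    show k * (w * v * w⁻¹ * v⁻¹) = (w * v * w⁻¹ * v⁻¹) * k
    rw [← mul_assoc, k4, mul_assoc, k5, ← mul_assoc]
  · rintro ⟨r, hr⟩ ⟨r', hr'⟩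
    obtain ⟨k1, hk1, hk1', e1⟩ := B.kf.f1 a haV hap r hr
    have hk1m : k1 ∈ kp R W p := ⟨hk1, hk1'⟩
    obtain ⟨k2, hk2, hk2', hk2V, e2⟩ := B.kf.f2 c hcW hcI hc (r' * (k1 * c * k1⁻¹ * c⁻¹)⁻¹)
      (mul_mem hr' (inv_mem (hk1' c hcW)))
    have hk2m : k2 ∈ kp R W p := ⟨hk2, hk2'⟩
    refine ⟨⟨k2 * k1, mul_mem hk2m hk1m⟩, Subtype.ext ?_, Subtype.ext ?_⟩
    · show k2 * k1 * a * (k2 * k1)⁻¹ * a⁻¹ = r
      rw [comm_mul D hk2m hk1m haW, e1, hk2V a haV]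
      group
    · show k2 * k1 * c * (k2 * k1)⁻¹ * c⁻¹ = r'
      rw [comm_mul D hk2m hk1m hcW, e2, inv_mul_cancel_right]

/-- **(B)** `[v, w] ∈ V_l` for `w ∈ W_q`, `v ∈ R_x` -/
theorem comm_mem' {w v : G} (hw : w ∈ W q) (hv : v ∈ R (h • y)) : v * w * v⁻¹ * w⁻¹ ∈ V l := by
  have h1 := inv_mem (B.comm_mem D hw hv)
  have e : (w * v * w⁻¹ * v⁻¹)⁻¹ = v * w * v⁻¹ * w⁻¹ := by group
  rwa [e] at h1

/-- `[f, v] ∉ R_p` for `1 ≠ v ∈ R_x` -/
theorem not_mem_R {v : G} (hv : v ∈ R (h • y)) (hv1 : v ≠ 1) : f * v * f⁻¹ * v⁻¹ ∉ R p := by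
  intro hcon
  have h1 := inc_of_comm D (B.xl D) (B.pl' D) hv hv1 hcon
  exact B.bad (D.inf_le (B.xl D) h1 (B.pl' D) B.mv.symm)

theorem not_mem_R' {v : G} (hv : v ∈ R (h • y)) (hv1 : v ≠ 1) : v * f * v⁻¹ * f⁻¹ ∉ R p := by
  intro hcon
  apply B.not_mem_R D hv hv1
  have h1 := inv_mem hcon
  have e : (v * f * v⁻¹ * f⁻¹)⁻¹ = f * v * f⁻¹ * v⁻¹ := by group
  rwa [e] at h1

end Bp

end Cfsg.Agent.Omega.NO3S.FarQ.Bad

end
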